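import Groth.Agent.An.H900.ChartMain
import Mathlib.RingTheory.MvPolynomial.Homogeneous
import Mathlib.FieldTheory.IsAlgClosed.Basic
import Mathlib.FieldTheory.Perfect

/-!
# General quadratic forms through a point of a normal projective variety

The variety is given by its charts: `K` is a field, `f : Fin (M + 1) → K` a family of nonzero elements, the
charts are the spectra of `Ch k f i = k[f m / f i | m] ⊆ K`.
-/

set_option autoImplicit false

universe u

open Cardinal Algebra MvPolynomial TensorProduct

namespace Groth.Agent.An.H900.Forms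

open TrdegRel Avoid Jets Gen Chart ChartMain

variable (k : Type u) {K : Type u} [Field k] [Field K] [Algebra k K] {M : ℕ}

/-- the chart algebra `k[f m / f i | m]` -/
noncomputable abbrev Ch (f : Fin (M + 1) → K) (i : Fin (M + 1)) : Subalgebra k K :=
  Algebra.adjoin k (Set.range fun m => f m / f i)

/-- the coordinate `f m / f i` on the chart -/
noncomputable def coor (f : Fin (M + 1) → K) (i m : Fin (M + 1)) : Ch k f i :=
  ⟨f m / f i, Algebra.subset_adjoin ⟨m, rfl⟩⟩

variable {k}

theorem coe_coor (f : Fin (M + 1) → K) (i m : Fin (M + 1)) : (coor k f i m : K) = f m / f i := rfl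

theorem coor_self {f : Fin (M + 1) → K} (i : Fin (M + 1)) (hf : f i ≠ 0) : coor k f i i = 1 :=
  Subtype.ext (div_self hf)

theorem adjoin_coor (f : Fin (M + 1) → K) (i : Fin (M + 1)) :
    Algebra.adjoin k (Set.range (coor k f i)) = ⊤ := by
  have h5 : (Algebra.adjoin k (Set.range (coor k f i))).map (Ch k f i).val =
      (⊤ : Subalgebra k (Ch k f i)).map (Ch k f i).val := by
    rw [AlgHom.map_adjoin, ← Set.range_comp, Algebra.map_top, Subalgebra.range_val]
    rfl
  exact Subalgebra.map_injective Subtype.val_injective h5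

theorem finiteType_Ch (f : Fin (M + 1) → K) (i : Fin (M + 1)) : Algebra.FiniteType k (Ch k f i) := by
  rw [← Subalgebra.fg_iff_finiteType]
  exact Subalgebra.fg_def.2 ⟨_, Set.finite_range _, rfl⟩

/-- the quadratic form with given coefficients on the products `T_p T_{j+1}` -/
noncomputable def form (k : Type u) [Field k] {c : Type} (a : c × (Fin (M + 1) × Fin M) → k) (l : c) :
    MvPolynomial (Fin (M + 1)) k :=
  ∑ pj : Fin (M + 1) × Fin M, a (l, pj) • (X pj.1 * X pj.2.succ)

theorem isHomogeneous_form {c : Type} (a : c × (Fin (M + 1) × Fin M) → k) (l : c) :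
    (form k a l).IsHomogeneous 2 := by
  refine MvPolynomial.IsHomogeneous.sum _ _ _ fun pj _ => ?_
  rw [MvPolynomial.smul_eq_C_mul]
  have h1 := (MvPolynomial.isHomogeneous_C (Fin (M + 1)) (a (l, pj))).mul
    ((MvPolynomial.isHomogeneous_X k pj.1).mul (MvPolynomial.isHomogeneous_X k pj.2.succ))
  simpa using h1

theorem aeval_form {A : Type u} [CommRing A] [Algebra k A] {c : Type} (a : c × (Fin (M + 1) × Fin M) → k)
    (l : c) (y : Fin (M + 1) → A) : aeval y (form k a l) = lin (quad y) a l := by
  simp [form, lin, quad]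

theorem finrank_kaehler_of_isSmoothAt [PerfectField k] {A : Type u} [CommRing A] [IsDomain A] [Algebra k A]
    [Algebra.FiniteType k A] {N : ℕ} (hN : Algebra.trdeg k A = N) (q : Ideal A) [q.IsPrime]
    (hq : Algebra.IsSmoothAt k q) :
    Module.finrank q.ResidueField (q.ResidueField ⊗[A] Ω[A⁄k]) = N := by
  let L := q.ResidueField
  obtain ⟨s, hs, -, -, ⟨b⟩⟩ := SmoothPts.exists_chart hN q hq 1 ((Ideal.ne_top_iff_one q).1
    (Ideal.IsPrime.ne_top inferInstance))
  have hu : IsUnit (algebraMap A L s) := by
    rw [isUnit_iff_ne_zero, Ne, Ideal.algebraMap_residueField_eq_zero]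
    exact hs
  let _ : Algebra (Localization.Away s) L := (IsLocalization.Away.lift s hu).toAlgebra
  have htow : IsScalarTower A (Localization.Away s) L :=
    .of_algebraMap_eq fun x => (IsLocalization.Away.lift_eq s hu x).symm
  obtain ⟨e, -⟩ := SmoothPts.exists_kaehler_equiv (k := k) s (Localization.Away s) L
  let bL : Module.Basis (Fin N) L (L ⊗[A] Ω[A⁄k]) := (b.baseChange L).map e.symm
  exact (Module.finrank_eq_card_basis bL).trans (Fintype.card_fin N)

/-- **General quadratic forms through a point.** Let `X̄ ⊆ ℙ^M` be a normal projective variety of dimension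
`n + 1` over an algebraically closed field, given by its charts `Spec (Ch k f i)`, and `x` the point
`[1 : 0 : … : 0]`, assumed smooth on `X̄`. There are `n` quadratic forms `H l` vanishing at `x` such that: at
every common zero of the `H l`, `X̄` is smooth and the differentials of the `H l` are independent; `X̄` has
only finitely many common zeros of the `H l` on the hyperplane `T₀ = 0`. -/
theorem exists_forms [IsAlgClosed k] {n : ℕ} (f : Fin (M + 1) → K) (hf : ∀ i, f i ≠ 0)
    (hfr : ∀ i, IsFractionRing (Ch k f i) K) (hN : ∀ i, IsIntegrallyClosed (Ch k f i))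
    (htr : Algebra.trdeg k K = (n + 1 : ℕ)) (x : Ch k f 0 →ₐ[k] k) (hx : ∀ j : Fin M, x (coor k f 0 j.succ) = 0)
    (hsm : ∀ (q : Ideal (Ch k f 0)) [q.IsPrime], q = RingHom.ker x → Algebra.IsSmoothAt k q) :
    ∃ H : Fin n → MvPolynomial (Fin (M + 1)) k, (∀ l, (H l).IsHomogeneous 2) ∧
      (∀ (i : Fin (M + 1)) (q : Ideal (Ch k f i)) [q.IsPrime], (∀ l, aeval (coor k f i) (H l) ∈ q) →
        Algebra.IsSmoothAt k q ∧
        LinearIndependent q.ResidueField (fun l => (1 : q.ResidueField) ⊗ₜ[Ch k f i]
          KaehlerDifferential.D k (Ch k f i) (aeval (coor k f i) (H l))) ∧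
        Module.finrank q.ResidueField (q.ResidueField ⊗[Ch k f i] Ω[Ch k f i⁄k]) = n + 1) ∧
      (∀ i, Module.Finite k (Ch k f i ⧸ Ideal.span (insert (coor k f i 0)
        (Set.range fun l => aeval (coor k f i) (H l))))) ∧
      ∀ l, x (aeval (coor k f 0) (H l)) = 0 := by
  classical
  have hft : ∀ i, Algebra.FiniteType k (Ch k f i) := fun i => finiteType_Ch f i
  have htrA : ∀ i, Algebra.trdeg k (Ch k f i) = (n + 1 : ℕ) := by
    intro i
    have := hfr i
    have ha : Algebra.IsAlgebraic (Ch k f i) K :=
      IsLocalization.isAlgebraic (R := Ch k f i) (S := K) (nonZeroDivisors _)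
    have h1 := trdeg_add_eq k (Ch k f i) (A := K)
    rw [trdeg_eq_zero (R := Ch k f i) (A := K), add_zero, htr] at h1
    exact h1
  have hcard : Fintype.card (Fin n) + 1 = n + 1 := by rw [Fintype.card_fin]
  have g1 := Gen.forall_finite fun i : Fin (M + 1) => by
    have := hN i
    exact gen_chart (k := k) (c := Fin n) (coor k f i) (adjoin_coor f i) i (coor_self i (hf i))
      (by rw [hcard]; exact htrA i) (by
        intro q hq hj
        have h0 : i = 0 := eq_zero_of_mem (coor k f i) i (coor_self i (hf i)) q hj
        subst h0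
        have h1 : q = RingHom.ker x := by
          have hp : (RingHom.ker x).IsPrime := RingHom.ker_isPrime _
          exact le_antisymm
            (le_of_mem (k := k) (coor k f 0) (adjoin_coor f 0) 0 (coor_self 0 (hf 0)) q _ hj (fun j => hx j))
            (le_of_mem (k := k) (coor k f 0) (adjoin_coor f 0) 0 (coor_self 0 (hf 0)) _ q (fun j => hx j) hj)
        exact hsm q h1)
  have g2 := Gen.forall_finite fun i : Fin (M + 1) =>
    gen_finite_infty (k := k) (c := Fin n) (coor k f i) i (coor_self i (hf i))
      (by rw [hcard]; exact htrA i) (fun h => div_ne_zero (hf 0) (hf i) (congrArg Subtype.val h))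
  have hinf : Infinite k := inferInstance
  obtain ⟨a, ha1, ha2⟩ := (g1.and g2).exists
  refine ⟨form k a, isHomogeneous_form a, fun i q hq hl => ?_, fun i => ?_, fun l => ?_⟩
  · have h3 : ∀ l, aeval (coor k f i) (form k a l) = lin (quad (coor k f i)) a l := fun l => aeval_form a l _
    have h4 : ∀ l, lin (quad (coor k f i)) a l ∈ q := fun l => by
      rw [← h3]; exact hl l
    obtain ⟨h1, h2⟩ := ha1 i q h4
    have h5 : (fun l => (1 : q.ResidueField) ⊗ₜ[Ch k f i]
        KaehlerDifferential.D k (Ch k f i) (lin (quad (coor k f i)) a l)) =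
        fun l => (1 : q.ResidueField) ⊗ₜ[Ch k f i]
        KaehlerDifferential.D k (Ch k f i) (aeval (coor k f i) (form k a l)) :=
      funext fun l => congrArg (fun z => (1 : q.ResidueField) ⊗ₜ[Ch k f i]
        KaehlerDifferential.D k (Ch k f i) z) (h3 l).symm
    exact ⟨h1, h5 ▸ h2, finrank_kaehler_of_isSmoothAt (htrA i) q h1⟩
  · have h3 : ∀ l, aeval (coor k f i) (form k a l) = lin (quad (coor k f i)) a l := fun l => aeval_form a l _
    have h5 : (lin (quad (coor k f i)) a) = fun l => aeval (coor k f i) (form k a l) :=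
      funext fun l => (h3 l).symm
    exact h5 ▸ ha2 i
  · rw [aeval_form, lin_eq, map_sum]
    refine Finset.sum_eq_zero fun pj _ => ?_
    rw [quad, map_mul, map_mul, hx, mul_zero, mul_zero]

end Groth.Agent.An.H900.Forms
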