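import Groth.Agent.An.H900.TrdegRel
import Mathlib.RingTheory.Ideal.Maximal
import Mathlib.RingTheory.Ideal.Prime
import Mathlib.RingTheory.Ideal.Quotient.Operations
import Mathlib.RingTheory.IntegralClosure.IsIntegral.Basic
import Mathlib.RingTheory.IntegralClosure.IsIntegralClosure.Basic

/-!
# General solutions of linear systems avoid small varieties

`exists_avoid`: let `B` be an algebra over a field `k` and `F` a matrix of size `ν × m` over `B`
having a right inverse, such that all `B/P` have transcendence degree `< ν`. For a general `a : m → k`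
the entries of `F a` generate the unit ideal of `B`.

`exists_finite`: if all `B/P` have transcendence degree `≤ ν` and `B` is of finite type, then for general
`a` the algebra `B / (F a)` is a finite `k`-module.
-/

set_option autoImplicit false

universe u

open Cardinal Algebra MvPolynomial

namespace Groth.Agent.An.H900.Avoid

open TrdegRel

variable {k B : Type u} [Field k] [CommRing B] [Algebra k B] {ν m : Type}
  [Fintype ν] [Fintype m]

/-- the ideal of linear relations -/
noncomputable def relIdeal (F : Matrix ν m B) : Ideal (MvPolynomial m B) :=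
  Ideal.span (Set.range (rel F))

/-- If `T` is a `k`-algebra and domain mapping to `B[X]`, of transcendence degree larger than allowed, then
some nonzero element of `T` maps into the ideal of linear relations. -/
theorem exists_mem_relIdeal [DecidableEq ν] (F : Matrix ν m B) (H : Matrix m ν B) (hFH : F * H = 1)
    {T : Type u} [CommRing T] [IsDomain T] [Algebra k T] (e : T →ₐ[k] MvPolynomial m B) (t : ℕ)
    (ht : (t : Cardinal.{u}) ≤ Algebra.trdeg k T)
    (htr : ∀ P : Ideal B, P.IsPrime → Algebra.trdeg k (B ⧸ P) + Fintype.card m < t + Fintype.card ν) :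
    ∃ p : T, p ≠ 0 ∧ e p ∈ relIdeal F := by
  by_contra hcon
  push Not at hcon
  let S : Submonoid (MvPolynomial m B) := (nonZeroDivisors T).map e.toRingHom.toMonoidHom
  have hdisj : Disjoint (relIdeal F : Set (MvPolynomial m B)) S := by
    rw [Set.disjoint_left]
    rintro q hq ⟨p, hp, rfl⟩
    exact hcon p (nonZeroDivisors.ne_zero hp) hq
  obtain ⟨Q, hQ, hle, hQS⟩ := Ideal.exists_le_prime_disjoint (relIdeal F) S hdisj
  have h1 := trdeg_quotient_add_le (k := k) F H hFH Q (fun i => hle (Ideal.subset_span ⟨i, rfl⟩))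
  have h2 := htr (Q.comap (C : B →+* MvPolynomial m B)) inferInstance
  have hinj : Function.Injective ((Ideal.Quotient.mkₐ k Q).comp e) := by
    rw [injective_iff_map_eq_zero]
    intro p hp
    by_contra hp0
    have h3 : e p ∈ Q := Ideal.Quotient.eq_zero_iff_mem.1 hp
    exact Set.disjoint_left.1 hQS h3 ⟨p, mem_nonZeroDivisors_of_ne_zero hp0, rfl⟩
  have h3 : Algebra.trdeg k T ≤ Algebra.trdeg k (MvPolynomial m B ⧸ Q) :=
    trdeg_le_of_injective _ hinj
  have h4 : (t : Cardinal.{u}) + Fintype.card ν < t + Fintype.card ν := by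
    calc (t : Cardinal.{u}) + Fintype.card ν ≤ Algebra.trdeg k (MvPolynomial m B ⧸ Q) + Fintype.card ν := by
          gcongr
          exact ht.trans h3
      _ ≤ _ := h1
      _ < _ := h2
  exact lt_irrefl _ h4

omit [Fintype ν] in
/-- specialisation of the linear relations -/
theorem rel_mem_map {F : Matrix ν m B} (a : m → k) {q : MvPolynomial m B} (hq : q ∈ relIdeal F) :
    MvPolynomial.eval (fun j => algebraMap k B (a j)) q ∈
      Ideal.span (Set.range (F.mulVec (fun j => algebraMap k B (a j)))) := by
  have h1 : (relIdeal F).map (MvPolynomial.eval (fun j => algebraMap k B (a j))) ≤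
      Ideal.span (Set.range (F.mulVec (fun j => algebraMap k B (a j)))) := by
    rw [relIdeal, Ideal.map_span, Ideal.span_le]
    rintro _ ⟨_, ⟨i, rfl⟩, rfl⟩
    refine Ideal.subset_span ⟨i, ?_⟩
    simp [rel, Matrix.mulVec, dotProduct]
  exact h1 (Ideal.mem_map_of_mem _ hq)

/-- **Avoidance.** -/
theorem exists_avoid [DecidableEq ν] (F : Matrix ν m B) (H : Matrix m ν B) (hFH : F * H = 1)
    (htr : ∀ P : Ideal B, P.IsPrime → Algebra.trdeg k (B ⧸ P) < Fintype.card ν) :
    ∃ G : MvPolynomial m k, G ≠ 0 ∧ ∀ a : m → k, MvPolynomial.eval a G ≠ 0 →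
      Ideal.span (Set.range (F.mulVec (fun j => algebraMap k B (a j)))) = ⊤ := by
  classical
  obtain ⟨G, hG, hm⟩ := exists_mem_relIdeal (k := k) F H hFH (T := MvPolynomial m k)
    (MvPolynomial.mapAlgHom (Algebra.ofId k B)) (Fintype.card m)
    (by rw [MvPolynomial.trdeg_of_isDomain]; simp)
    (fun P hP => by
      have h0 := htr P hP
      obtain ⟨t, ht⟩ := Cardinal.lt_aleph0.1 (h0.trans (Cardinal.natCast_lt_aleph0))
      rw [ht] at h0 ⊢
      rw [Nat.cast_lt] at h0
      exact_mod_cast (by omega : t + Fintype.card m < Fintype.card m + Fintype.card ν))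
  refine ⟨G, hG, fun a ha => ?_⟩
  have h1 := rel_mem_map a hm
  have h2 : MvPolynomial.eval (fun j => algebraMap k B (a j)) (MvPolynomial.mapAlgHom (Algebra.ofId k B) G) =
      algebraMap k B (MvPolynomial.eval a G) := by
    have : MvPolynomial.mapAlgHom (Algebra.ofId k B) G = MvPolynomial.map (algebraMap k B) G := rfl
    rw [this, MvPolynomial.eval_map]
    have h3 : algebraMap k B (MvPolynomial.eval a G) = MvPolynomial.eval₂ (algebraMap k B)
        (fun j => algebraMap k B (a j)) G := by
      have := MvPolynomial.eval₂_comp_left (algebraMap k B) (RingHom.id k) a G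
      rw [RingHom.comp_id] at this
      exact this
    exact h3.symm
  rw [h2] at h1
  exact Ideal.eq_top_of_isUnit_mem _ h1 ((IsUnit.mk0 _ ha).map (algebraMap k B))

/-- A general specialisation makes a given element integral. -/
theorem exists_integral [DecidableEq ν] (F : Matrix ν m B) (H : Matrix m ν B) (hFH : F * H = 1)
    (htr : ∀ P : Ideal B, P.IsPrime → Algebra.trdeg k (B ⧸ P) ≤ Fintype.card ν) (y : B) :
    ∃ G : MvPolynomial m k, G ≠ 0 ∧ ∀ a : m → k, MvPolynomial.eval a G ≠ 0 →
      IsIntegral k (Ideal.Quotient.mk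
        (Ideal.span (Set.range (F.mulVec (fun j => algebraMap k B (a j))))) y) := by
  classical
  let φ : MvPolynomial m k →ₐ[k] MvPolynomial m B := MvPolynomial.mapAlgHom (Algebra.ofId k B)
  let e : Polynomial (MvPolynomial m k) →ₐ[k] MvPolynomial m B :=
    { Polynomial.eval₂RingHom φ.toRingHom (C y) with
      commutes' := fun c => by
        change Polynomial.eval₂ φ.toRingHom (C y) (algebraMap k _ c) = _
        rw [IsScalarTower.algebraMap_apply k (MvPolynomial m k) (Polynomial (MvPolynomial m k)),
          Polynomial.algebraMap_apply, Algebra.algebraMap_self, RingHom.id_apply, Polynomial.eval₂_C]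
        exact φ.commutes c }
  have he : ∀ p, e p = Polynomial.eval₂ φ.toRingHom (C y) p := fun p => rfl
  obtain ⟨p, hp, hm⟩ := exists_mem_relIdeal (k := k) F H hFH (T := Polynomial (MvPolynomial m k))
    e (Fintype.card m + 1)
    (by
      rw [← trdeg_add_eq k (MvPolynomial m k), MvPolynomial.trdeg_of_isDomain,
        Polynomial.trdeg_of_isDomain]
      simp)
    (fun P hP => by
      have h0 := htr P hP
      obtain ⟨t, ht⟩ := Cardinal.lt_aleph0.1 (h0.trans_lt (Cardinal.natCast_lt_aleph0))
      rw [ht] at h0 ⊢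
      rw [Nat.cast_le] at h0
      exact_mod_cast (by omega : t + Fintype.card m < Fintype.card m + 1 + Fintype.card ν))
  refine ⟨p.leadingCoeff, Polynomial.leadingCoeff_ne_zero.2 hp, fun a ha => ?_⟩
  set I := Ideal.span (Set.range (F.mulVec (fun j => algebraMap k B (a j)))) with hI
  have h1 := rel_mem_map a hm
  let pa : Polynomial k := p.map (MvPolynomial.eval a)
  have hlc : pa.leadingCoeff = MvPolynomial.eval a p.leadingCoeff :=
    Polynomial.leadingCoeff_map_of_leadingCoeff_ne_zero _ ha
  have h2 : MvPolynomial.eval (fun j => algebraMap k B (a j)) (e p) = Polynomial.aeval y pa := by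
    rw [he, Polynomial.hom_eval₂, MvPolynomial.eval_C]
    rw [Polynomial.aeval_def, Polynomial.eval₂_map]
    congr 1
    apply RingHom.ext
    intro q
    have h3 : algebraMap k B (MvPolynomial.eval a q) = MvPolynomial.eval₂ (algebraMap k B)
        (fun j => algebraMap k B (a j)) q := by
      have := MvPolynomial.eval₂_comp_left (algebraMap k B) (RingHom.id k) a q
      rw [RingHom.comp_id] at this
      exact this
    rw [RingHom.comp_apply, RingHom.comp_apply, h3]
    have : φ.toRingHom q = MvPolynomial.map (algebraMap k B) q := rfl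
    rw [this, MvPolynomial.eval_map]
  rw [h2] at h1
  have hc : pa.leadingCoeff ≠ 0 := by rw [hlc]; exact ha
  refine ⟨Polynomial.C pa.leadingCoeff⁻¹ * pa, ?_, ?_⟩
  · exact Polynomial.monic_C_mul_of_mul_leadingCoeff_eq_one (inv_mul_cancel₀ hc)
  · have h4 : Polynomial.aeval (Ideal.Quotient.mk I y) pa = 0 := by
      have h5 : Polynomial.aeval (Ideal.Quotient.mkₐ k I y) pa = Ideal.Quotient.mkₐ k I (Polynomial.aeval y pa) :=
        Polynomial.aeval_algHom_apply _ _ _
      change Polynomial.aeval (Ideal.Quotient.mkₐ k I y) pa = 0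
      rw [h5]
      exact Ideal.Quotient.eq_zero_iff_mem.2 h1
    rw [← Polynomial.aeval_def, map_mul, h4, mul_zero]

/-- **Finiteness of general solutions.** -/
theorem exists_finite [Algebra.FiniteType k B] [DecidableEq ν] (F : Matrix ν m B) (H : Matrix m ν B)
    (hFH : F * H = 1) (htr : ∀ P : Ideal B, P.IsPrime → Algebra.trdeg k (B ⧸ P) ≤ Fintype.card ν) :
    ∃ G : MvPolynomial m k, G ≠ 0 ∧ ∀ a : m → k, MvPolynomial.eval a G ≠ 0 →
      Module.Finite k (B ⧸ Ideal.span (Set.range (F.mulVec (fun j => algebraMap k B (a j))))) := by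
  classical
  obtain ⟨s, hs⟩ := Algebra.FiniteType.out (R := k) (A := B)
  choose G hG0 hG using fun y : B => exists_integral (k := k) F H hFH htr y
  refine ⟨∏ y ∈ s, G y, Finset.prod_ne_zero_iff.2 fun y _ => hG0 y, fun a ha => ?_⟩
  rw [map_prod, Finset.prod_ne_zero_iff] at ha
  set I := Ideal.span (Set.range (F.mulVec (fun j => algebraMap k B (a j)))) with hI
  have hadj : Algebra.adjoin k ((s.image (Ideal.Quotient.mk I) : Finset (B ⧸ I)) : Set (B ⧸ I)) = ⊤ := by
    have h1 : (Algebra.adjoin k (s : Set B)).map (Ideal.Quotient.mkₐ k I) =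
        (⊤ : Subalgebra k B).map (Ideal.Quotient.mkₐ k I) := by rw [hs]
    rw [AlgHom.map_adjoin, Algebra.map_top, (AlgHom.range_eq_top _).2 (Ideal.Quotient.mkₐ_surjective k I)] at h1
    rw [← h1, Finset.coe_image]
    rfl
  have hfg := fg_adjoin_of_finite (R := k) (s := ((s.image (Ideal.Quotient.mk I) : Finset (B ⧸ I)) : Set (B ⧸ I)))
    (Finset.finite_toSet _) (fun z hz => by
      rw [Finset.coe_image] at hz
      obtain ⟨y, hy, rfl⟩ := hz
      exact hG y a (ha y hy))
  rw [hadj, Algebra.top_toSubmodule] at hfg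
  exact ⟨hfg⟩

end Groth.Agent.An.H900.Avoid
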