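import Groth.Agent.CalgC.RegSmooth
import Groth.Agent.Ega4B.DimFT2
import Groth.Agent.CurvesB.SmoothCurveAlg
import Mathlib.RingTheory.DiscreteValuationRing.TFAE
import Mathlib.RingTheory.Smooth.StandardSmoothOfFree
import Mathlib.RingTheory.Ideal.KrullsHeightTheorem

/-!
# Smooth points of finite type domains over a perfect field
-/

set_option autoImplicit false

universe u

open TensorProduct Module

namespace Groth.Agent.An.H900.SmoothPts

/-- points of height at most one of a normal domain are regular -/
theorem isRegularLocalRing_of_height_le_one {A : Type u} [CommRing A] [IsDomain A]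
    [IsNoetherianRing A] [IsIntegrallyClosed A] (q : Ideal A)
    [q.IsPrime] (h : q.height ≤ 1) : IsRegularLocalRing (Localization.AtPrime q) := by
  have h1 : IsIntegrallyClosed (Localization.AtPrime q) :=
    isIntegrallyClosed_of_isLocalization (R := A) (Localization.AtPrime q) q.primeCompl
      q.primeCompl_le_nonZeroDivisors
  have h2 : IsNoetherianRing (Localization.AtPrime q) :=
    IsLocalization.isNoetherianRing q.primeCompl _ inferInstance
  have h3 : IsPrincipalIdealRing (Localization.AtPrime q) := by
    have h4 := tfae_of_isNoetherianRing_of_isLocalRing_of_isDomain (Localization.AtPrime q)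
    have h40 : IsPrincipalIdealRing (Localization.AtPrime q) ↔
        (IsIntegrallyClosed (Localization.AtPrime q) ∧ ∀ P : Ideal (Localization.AtPrime q), P ≠ ⊥ →
          P.IsPrime → P = IsLocalRing.maximalIdeal (Localization.AtPrime q)) := h4.out 0 3
    refine h40.2 ⟨h1, fun P hP hPp => ?_⟩
    have hdim : ringKrullDim (Localization.AtPrime q) ≤ 1 := by
      rw [IsLocalization.AtPrime.ringKrullDim_eq_height q (Localization.AtPrime q)]
      exact_mod_cast h
    by_contra hne
    have hlt : P < IsLocalRing.maximalIdeal _ :=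
      lt_of_le_of_ne (IsLocalRing.le_maximalIdeal hPp.ne_top) hne
    have hb : (⊥ : Ideal (Localization.AtPrime q)) < P := bot_lt_iff_ne_bot.2 hP
    let l : LTSeries (PrimeSpectrum (Localization.AtPrime q)) :=
      { length := 2
        toFun := ![⟨⊥, Ideal.isPrime_bot⟩, ⟨P, hPp⟩, ⟨IsLocalRing.maximalIdeal _, inferInstance⟩]
        step := by
          intro i
          fin_cases i
          · exact hb
          · exact hlt }
    have h5 : ((2 : ℕ) : WithBot ℕ∞) ≤ ringKrullDim (Localization.AtPrime q) :=
      Order.LTSeries.length_le_krullDim l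
    have h6 := h5.trans hdim
    exact absurd h6 (by decide)
  infer_instance

variable {k A : Type u} [Field k] [CommRing A] [IsDomain A] [Algebra k A] [Algebra.FiniteType k A]

/-- non-smooth points of a normal domain have codimension at least two -/
theorem exists_trdeg_add_two_le [PerfectField k] [IsIntegrallyClosed A] (q : Ideal A) [q.IsPrime]
    (hq : ¬ Algebra.IsSmoothAt k q) {N : ℕ} (hN : Algebra.trdeg k A = N) :
    ∃ a : ℕ, Algebra.trdeg k (A ⧸ q) = a ∧ a + 2 ≤ N := by
  have : IsNoetherianRing A := Algebra.FiniteType.isNoetherianRing k A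
  obtain ⟨a, n, ha, hn, h⟩ := Groth.Agent.Ega4B.DimFT2.exists_height_add_trdeg k A q
  rw [hN, Nat.cast_inj] at hn
  subst hn
  refine ⟨a, ha, ?_⟩
  by_contra hlt
  push Not at hlt
  apply hq
  rw [Groth.Agent.CalgC.RegSmooth.isSmoothAt_iff_isRegularLocalRing_of_perfectField]
  apply isRegularLocalRing_of_height_le_one
  have h7 : q.height ≠ ⊤ := fun ht => by
    rw [ht] at h
    exact absurd h (by simp)
  obtain ⟨t, ht⟩ := ENat.ne_top_iff_exists.1 h7
  rw [← ht] at h ⊢
  have h8 : t + a = N := by exact_mod_cast h
  exact_mod_cast (by omega : t ≤ 1)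

theorem exists_trdeg_le {N : ℕ} (hN : Algebra.trdeg k A = N) (q : Ideal A) [q.IsPrime] :
    ∃ a : ℕ, Algebra.trdeg k (A ⧸ q) = a ∧ a ≤ N ∧ (q ≠ ⊥ → a + 1 ≤ N) := by
  have : IsNoetherianRing A := Algebra.FiniteType.isNoetherianRing k A
  obtain ⟨a, n, ha, hn, h⟩ := Groth.Agent.Ega4B.DimFT2.exists_height_add_trdeg k A q
  rw [hN, Nat.cast_inj] at hn
  subst hn
  have h7 : q.height ≠ ⊤ := fun ht => by
    rw [ht] at h
    exact absurd h (by simp)
  obtain ⟨t, ht⟩ := ENat.ne_top_iff_exists.1 h7
  rw [← ht] at h
  have h8 : t + a = N := by exact_mod_cast h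
  refine ⟨a, ha, by omega, fun hq => ?_⟩
  have h9 : t ≠ 0 := by
    rintro rfl
    have h10 : q.height = 0 := by rw [← ht]; rfl
    exact hq (Ideal.height_eq_zero_iff_eq_bot.1 h10)
  omega

omit [IsDomain A] [Algebra.FiniteType k A] in
/-- Comparison of differentials with a localization, over a field-valued point. -/
theorem exists_kaehler_equiv (s : A) (B : Type u) [CommRing B] [Algebra A B] [Algebra k B]
    [IsScalarTower k A B] [IsLocalization.Away s B] (L : Type u) [Field L] [Algebra A L] [Algebra B L]
    [IsScalarTower A B L] :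
    ∃ e : L ⊗[A] Ω[A⁄k] ≃ₗ[L] L ⊗[B] Ω[B⁄k],
      ∀ x : A, e (1 ⊗ₜ KaehlerDifferential.D k A x) = 1 ⊗ₜ KaehlerDifferential.D k B (algebraMap A B x) := by
  have : Algebra.FormallyEtale A B := .of_isLocalization (.powers s)
  let e1 := KaehlerDifferential.tensorKaehlerEquivOfFormallyEtale k A B
  let e2 := TensorProduct.AlgebraTensorModule.cancelBaseChange A B L L Ω[A⁄k]
  let e3 := TensorProduct.AlgebraTensorModule.congr (LinearEquiv.refl L L) e1
  refine ⟨e2.symm.trans e3, fun x => ?_⟩
  simp [e1, e2, e3]

/-- A smooth point of a finite type domain over a perfect field has a basic open neighbourhood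
with free module of differentials, of rank the transcendence degree. -/
theorem exists_chart [PerfectField k] {N : ℕ} (hN : Algebra.trdeg k A = N) (q : Ideal A) [q.IsPrime]
    (hq : Algebra.IsSmoothAt k q) (v : A) (hv : v ∉ q) :
    ∃ s : A, s ∉ q ∧ v ∣ s ∧ Algebra.IsStandardSmooth k (Localization.Away s) ∧
      Nonempty (Module.Basis (Fin N) (Localization.Away s) Ω[Localization.Away s⁄k]) := by
  have hfp : Algebra.FinitePresentation k A := Algebra.FinitePresentation.of_finiteType.1 inferInstance
  obtain ⟨s₀, hs₀, hst₀⟩ := Algebra.IsSmoothAt.exists_notMem_isStandardSmooth k q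
  obtain ⟨s, hs, hvs, hst⟩ : ∃ s : A, s ∉ q ∧ v ∣ s ∧ Algebra.IsStandardSmooth k (Localization.Away s) := by
    refine ⟨s₀ * v, fun h => ((inferInstance : q.IsPrime).mem_or_mem h).elim hs₀ hv, dvd_mul_left _ _, ?_⟩
    let B := Localization.Away (algebraMap A (Localization.Away s₀) v)
    have h1 : Algebra.IsStandardSmooth (Localization.Away s₀) B := .localization_away (algebraMap A _ v)
    have h2 : Algebra.IsStandardSmooth k B := .trans k (Localization.Away s₀) B
    have h3 : IsLocalization.Away (s₀ * v) B := IsLocalization.Away.mul' (Localization.Away s₀) B _ _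
    let e : Localization.Away (s₀ * v) ≃ₐ[A] B := Localization.algEquiv _ _
    exact .of_algEquiv (e.restrictScalars k).symm
  have hs0 : s ≠ 0 := fun h => hs (h ▸ q.zero_mem)
  have hdom : IsDomain (Localization.Away s) :=
    IsLocalization.isDomain_localization (powers_le_nonZeroDivisors_of_noZeroDivisors hs0)
  let K := FractionRing (Localization.Away s)
  refine ⟨s, hs, hvs, inferInstance, ?_⟩
  have hinj : Function.Injective (algebraMap A (Localization.Away s)) :=
    IsLocalization.injective _ (powers_le_nonZeroDivisors_of_noZeroDivisors hs0)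
  have hf1 : FaithfulSMul A (Localization.Away s) := (faithfulSMul_iff_algebraMap_injective _ _).2 hinj
  have hf2 : FaithfulSMul (Localization.Away s) K :=
    (faithfulSMul_iff_algebraMap_injective _ _).2 (IsFractionRing.injective _ _)
  have ha1 : Algebra.IsAlgebraic A (Localization.Away s) :=
    IsLocalization.isAlgebraic (R := A) (S := Localization.Away s) (.powers s)
  have ha2 : Algebra.IsAlgebraic (Localization.Away s) K :=
    IsLocalization.isAlgebraic (R := Localization.Away s) (S := K) (nonZeroDivisors _)
  have ht1 : Algebra.trdeg k A + Algebra.trdeg A (Localization.Away s) =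
    Algebra.trdeg k (Localization.Away s) := trdeg_add_eq k A
  have ht2 : Algebra.trdeg k (Localization.Away s) + Algebra.trdeg (Localization.Away s) K =
    Algebra.trdeg k K := trdeg_add_eq k (Localization.Away s)
  rw [trdeg_eq_zero (R := A) (A := Localization.Away s), add_zero] at ht1
  rw [trdeg_eq_zero (R := Localization.Away s) (A := K), add_zero, ← ht1, hN] at ht2
  have hfr : Module.finrank (Localization.Away s) Ω[Localization.Away s⁄k] = N := by
    rw [← Groth.Agent.CurvesB.SmoothCurveAlg.finrank_eq_of_isFractionRing k (Localization.Away s) K]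
    have : Algebra.EssFiniteType k K := .comp k (Localization.Away s) K
    have : Algebra.FormallySmooth k K := inferInstance
    rw [Groth.Agent.CurvesB.SmoothCurveAlg.finrank_kaehler_eq_trdeg, ← ht2]
    simp
  have : Module.Free (Localization.Away s) Ω[Localization.Away s⁄k] := inferInstance
  exact ⟨(Module.finBasis (Localization.Away s) Ω[Localization.Away s⁄k]).reindex (finCongr hfr)⟩

end Groth.Agent.An.H900.SmoothPts
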