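import Groth.Agent.An.H900.Gen
import Groth.Agent.An.H900.SmoothPts
import Mathlib.RingTheory.Spectrum.Prime.Noetherian

/-!
# General sections on one chart
-/

set_option autoImplicit false

universe u

open Cardinal Algebra MvPolynomial TensorProduct

namespace Groth.Agent.An.H900.Chart

open TrdegRel Avoid Jets Gen

section Ideal

variable {k A : Type u} [Field k] [CommRing A] [Algebra k A] {c m : Type} [Fintype c] [Fintype m]
  (w : m → A)

/-- the value matrix -/
noncomputable def valMat [DecidableEq c] (I : Ideal A) : Matrix c (c × m) (A ⧸ I) :=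
  Matrix.of fun l lj => if l = lj.1 then Ideal.Quotient.mk I (w lj.2) else 0

theorem exists_rightInverse_valMat [DecidableEq c] (I : Ideal A) (hI : I ⊔ Ideal.span (Set.range w) = ⊤) :
    ∃ H : Matrix (c × m) c (A ⧸ I), valMat (c := c) w I * H = 1 := by
  classical
  have h1 : (1 : A) ∈ I ⊔ Ideal.span (Set.range w) := by rw [hI]; trivial
  obtain ⟨x, hx, z, hz, hxz⟩ := Submodule.mem_sup.1 h1
  obtain ⟨α, hα⟩ := (Submodule.mem_span_range_iff_exists_fun A).1 hz
  have h2 : ∑ j, Ideal.Quotient.mk I (w j) * Ideal.Quotient.mk I (α j) = 1 := by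
    rw [← map_one (Ideal.Quotient.mk I), ← hxz, map_add, Ideal.Quotient.eq_zero_iff_mem.2 hx, zero_add,
      ← hα, map_sum]
    exact Finset.sum_congr rfl fun j _ => by rw [smul_eq_mul, map_mul, mul_comm]
  refine ⟨Matrix.of fun lj l => if lj.1 = l then Ideal.Quotient.mk I (α lj.2) else 0, ?_⟩
  refine Matrix.ext fun l l' => ?_
  rw [Matrix.mul_apply, Fintype.sum_prod_type]
  simp only [valMat, Matrix.of_apply, ite_mul, zero_mul, mul_ite, mul_zero]
  rw [Finset.sum_eq_single l (fun x _ hx => by simp [hx.symm]) (by simp)]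
  by_cases h : l = l'
  · subst h
    simpa using h2
  · simp [h]

theorem span_range_valMat [DecidableEq c] (I : Ideal A) (a : c × m → k) :
    Ideal.span (Set.range ((valMat w I).mulVec (fun j => algebraMap k (A ⧸ I) (a j)))) =
      (Ideal.span (Set.range (lin w a))).map (Ideal.Quotient.mk I) := by
  rw [Ideal.map_span, ← Set.range_comp]
  congr 2
  funext l
  rw [Function.comp_apply, lin_eq, map_sum]
  simp only [Matrix.mulVec, dotProduct, valMat, Matrix.of_apply]
  rw [Fintype.sum_prod_type]
  rw [Finset.sum_eq_single l (fun x _ hx => by simp [hx.symm]) (by simp)]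
  refine Finset.sum_congr rfl fun j _ => ?_
  rw [if_pos rfl, map_mul, mul_comm]
  rfl

theorem trdeg_quotient_le (I : Ideal A) (P : Ideal (A ⧸ I)) [P.IsPrime] :
    Algebra.trdeg k ((A ⧸ I) ⧸ P) ≤ Algebra.trdeg k (A ⧸ P.comap (Ideal.Quotient.mk I)) := by
  let φ : (A ⧸ P.comap (Ideal.Quotient.mk I)) →ₐ[k] ((A ⧸ I) ⧸ P) :=
    Ideal.Quotient.liftₐ _ ((Ideal.Quotient.mkₐ k P).comp (Ideal.Quotient.mkₐ k I))
      (fun x hx => Ideal.Quotient.eq_zero_iff_mem.2 hx)
  refine trdeg_le_of_surjective φ ?_
  intro z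
  obtain ⟨z, rfl⟩ := Ideal.Quotient.mk_surjective z
  obtain ⟨z, rfl⟩ := Ideal.Quotient.mk_surjective z
  exact ⟨Ideal.Quotient.mk _ z, rfl⟩

/-- General sections generate the unit ideal along a small closed subset. -/
theorem gen_avoid (I : Ideal A) (hI : I ⊔ Ideal.span (Set.range w) = ⊤)
    (htr : ∀ q : Ideal A, q.IsPrime → I ≤ q → Algebra.trdeg k (A ⧸ q) < Fintype.card c) :
    Gen (fun a : c × m → k => I ⊔ Ideal.span (Set.range (lin w a)) = ⊤) := by
  classical
  obtain ⟨H, hH⟩ := exists_rightInverse_valMat (c := c) w I hI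
  obtain ⟨G, hG, h⟩ := exists_avoid (k := k) (valMat w I) H hH fun P hP =>
    (trdeg_quotient_le (k := k) I P).trans_lt (htr _ inferInstance
      (fun x hx => by
        rw [Ideal.mem_comap, Ideal.Quotient.eq_zero_iff_mem.2 hx]
        exact P.zero_mem))
  refine ⟨G, hG, fun a ha => ?_⟩
  have h1 := h a ha
  rw [span_range_valMat] at h1
  have h2 := congrArg (Ideal.comap (Ideal.Quotient.mk I)) h1
  rw [Ideal.comap_map_of_surjective _ Ideal.Quotient.mk_surjective, Ideal.comap_top,
    ← RingHom.ker_eq_comap_bot, Ideal.mk_ker, sup_comm] at h2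
  exact h2

/-- General sections have finitely many common zeros on closed subsets of small dimension. -/
theorem gen_finite [Algebra.FiniteType k A] (I : Ideal A) (hI : I ⊔ Ideal.span (Set.range w) = ⊤)
    (htr : ∀ q : Ideal A, q.IsPrime → I ≤ q → Algebra.trdeg k (A ⧸ q) ≤ Fintype.card c) :
    Gen (fun a : c × m → k => Module.Finite k (A ⧸ (I ⊔ Ideal.span (Set.range (lin w a))))) := by
  classical
  obtain ⟨H, hH⟩ := exists_rightInverse_valMat (c := c) w I hI
  obtain ⟨G, hG, h⟩ := exists_finite (k := k) (valMat w I) H hH fun P hP =>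
    (trdeg_quotient_le (k := k) I P).trans (htr _ inferInstance
      (fun x hx => by
        rw [Ideal.mem_comap, Ideal.Quotient.eq_zero_iff_mem.2 hx]
        exact P.zero_mem))
  refine ⟨G, hG, fun a ha => ?_⟩
  have h1 := h a ha
  rw [span_range_valMat] at h1
  have h2 : Module.Finite k ((A ⧸ I) ⧸ Ideal.map (Ideal.Quotient.mkₐ k I) (Ideal.span (Set.range (lin w a)))) := h1
  exact Module.Finite.equiv (DoubleQuot.quotQuotEquivQuotSupₐ k I (Ideal.span (Set.range (lin w a)))).toLinearEquiv

end Ideal

section JetSpan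

/-- If the differentials of the `y p` generate `Ω[B⁄k]`, some `y p` is `1` and `v` is a unit, the `1`-jets of
the products `y p * v` generate. -/
theorem span_jets_eq_top {k B : Type u} [CommRing k] [CommRing B] [Algebra k B] {ι κ : Type*} (y : ι → B)
    (hy : Submodule.span B (Set.range fun p => KaehlerDifferential.D k B (y p)) = ⊤)
    (i₀ : ι) (hi₀ : y i₀ = 1) (v : B) (hv : IsUnit v) (w : κ → B)
    (hw : ∀ p, ∃ j, w j = y p * v) :
    Submodule.span B (Set.range fun j => (w j, KaehlerDifferential.D k B (w j))) = ⊤ := by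
  set N := Submodule.span B (Set.range fun j => (w j, KaehlerDifferential.D k B (w j))) with hN
  obtain ⟨v, rfl⟩ := hv
  have h1 : ∀ p, (y p * v, KaehlerDifferential.D k B (y p * v)) ∈ N := by
    intro p
    obtain ⟨j, hj⟩ := hw p
    rw [← hj]
    exact Submodule.subset_span ⟨j, rfl⟩
  have h2 : ∀ p, ((0 : B), KaehlerDifferential.D k B (y p)) ∈ N := by
    intro p
    have h3 := N.sub_mem (h1 p) (N.smul_mem (y p) (h1 i₀))
    rw [hi₀, one_mul, (KaehlerDifferential.D k B).leibniz] at h3
    have h4 := N.smul_mem (↑v⁻¹ : B) h3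
    have h5 : (↑v⁻¹ : B) • ((y p * (v : B), y p • KaehlerDifferential.D k B (v : B) +
        (v : B) • KaehlerDifferential.D k B (y p)) - y p • ((v : B), KaehlerDifferential.D k B (v : B))) =
        ((0 : B), KaehlerDifferential.D k B (y p)) := by
      ext1
      · simp
      · simp only [Prod.smul_mk, Prod.mk_sub_mk, add_sub_cancel_left]
        rw [smul_smul, Units.inv_mul, one_smul]
    rwa [h5] at h4
  have h6 : ∀ ω : Ω[B⁄k], ((0 : B), ω) ∈ N := by
    intro ω
    have h7 : Submodule.span B (Set.range fun p => KaehlerDifferential.D k B (y p)) ≤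
        N.comap (LinearMap.inr B B Ω[B⁄k]) := by
      rw [Submodule.span_le]
      rintro _ ⟨p, rfl⟩
      exact h2 p
    rw [hy] at h7
    exact h7 (x := ω) trivial
  have h8 : ∀ b : B, (b, (0 : Ω[B⁄k])) ∈ N := by
    intro b
    have h9 := N.sub_mem (h1 i₀) (h6 (KaehlerDifferential.D k B (y i₀ * v)))
    have h10 := N.smul_mem (b * ↑v⁻¹) h9
    simpa [hi₀] using h10
  rw [_root_.eq_top_iff]
  rintro ⟨b, ω⟩ -
  have := N.add_mem (h8 b) (h6 ω)
  simpa using this

theorem span_D {k A : Type u} [CommRing k] [CommRing A] [Algebra k A] {ι : Type*} (y : ι → A)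
    (hy : Algebra.adjoin k (Set.range y) = ⊤) :
    Submodule.span A (Set.range fun p => KaehlerDifferential.D k A (y p)) = ⊤ := by
  rw [_root_.eq_top_iff, ← KaehlerDifferential.span_range_derivation, Submodule.span_le]
  rintro _ ⟨x, rfl⟩
  have hx : x ∈ Algebra.adjoin k (Set.range y) := by rw [hy]; trivial
  induction hx using Algebra.adjoin_induction with
  | mem x hx =>
    obtain ⟨p, rfl⟩ := hx
    exact Submodule.subset_span ⟨p, rfl⟩
  | algebraMap r =>
    rw [SetLike.mem_coe, Derivation.map_algebraMap]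
    exact Submodule.zero_mem _
  | add x z _ _ hx hz =>
    rw [SetLike.mem_coe, map_add]
    exact Submodule.add_mem _ hx hz
  | mul x z _ _ hx hz =>
    rw [SetLike.mem_coe, Derivation.leibniz]
    exact Submodule.add_mem _ (Submodule.smul_mem _ _ hz) (Submodule.smul_mem _ _ hx)

theorem span_D_localization {k A B : Type u} [CommRing k] [CommRing A] [Algebra k A] [CommRing B] [Algebra k B]
    [Algebra A B] [IsScalarTower k A B] (M : Submonoid A) [IsLocalization M B] {ι : Type*} (y : ι → A)
    (hy : Algebra.adjoin k (Set.range y) = ⊤) :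
    Submodule.span B (Set.range fun p => KaehlerDifferential.D k B (algebraMap A B (y p))) = ⊤ := by
  have h1 := span_D (k := k) y hy
  have : IsLocalizedModule M (KaehlerDifferential.map k k A B) :=
    KaehlerDifferential.isLocalizedModule_map _ _ _ M
  have h2 := span_eq_top_of_isLocalizedModule B M (KaehlerDifferential.map k k A B) h1
  rw [← Set.range_comp] at h2
  rw [← h2]
  congr 2
  funext p
  exact (KaehlerDifferential.map_D k k A B (y p)).symm

end JetSpan

end Groth.Agent.An.H900.Chart
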