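import Groth.Agent.An.H900.Chart

/-!
# General quadratic sections on a chart
-/

set_option autoImplicit false

universe u

open Cardinal Algebra MvPolynomial TensorProduct

namespace Groth.Agent.An.H900.ChartMain

open TrdegRel Avoid Jets Gen Chart

variable {k A : Type u} [Field k] [CommRing A] [IsDomain A] [Algebra k A] [Algebra.FiniteType k A]
  {c : Type} [Fintype c] {M : ℕ}

/-- the products `y_p y_{j+1}` -/
def quad (y : Fin (M + 1) → A) (pj : Fin (M + 1) × Fin M) : A := y pj.1 * y pj.2.succ

/-- Independence of the differentials, on a basic open set where the module of differentials is free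
and one of the `y_{j+1}` is invertible. -/
theorem gen_indep_away (y : Fin (M + 1) → A) (hy : Algebra.adjoin k (Set.range y) = ⊤)
    (i : Fin (M + 1)) (hi : y i = 1) {N : ℕ} (hN : Algebra.trdeg k A = N) (s : A) (hs : s ≠ 0)
    (b : Module.Basis (Fin N) (Localization.Away s) Ω[Localization.Away s⁄k]) (j₀ : Fin M)
    (hj₀ : y j₀.succ ∣ s) :
    Gen (fun a : c × (Fin (M + 1) × Fin M) → k => ∀ (q : Ideal A) [q.IsPrime], s ∉ q →
      (∀ l, lin (quad y) a l ∈ q) →
      LinearIndependent q.ResidueField (fun l => (1 : q.ResidueField) ⊗ₜ[A]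
        KaehlerDifferential.D k A (lin (quad y) a l))) := by
  classical
  let B := Localization.Away s
  have hdom : IsDomain B :=
    IsLocalization.isDomain_localization (powers_le_nonZeroDivisors_of_noZeroDivisors hs)
  have hft : Algebra.FiniteType k B := .trans (inferInstance : Algebra.FiniteType k A)
    (IsLocalization.finiteType_of_monoid_fg (.powers s) B)
  have hinj : Function.Injective (algebraMap A B) :=
    IsLocalization.injective _ (powers_le_nonZeroDivisors_of_noZeroDivisors hs)
  have hf1 : FaithfulSMul A B := (faithfulSMul_iff_algebraMap_injective _ _).2 hinj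
  have ha1 : Algebra.IsAlgebraic A B := IsLocalization.isAlgebraic (R := A) (S := B) (.powers s)
  have ht1 : Algebra.trdeg k A + Algebra.trdeg A B = Algebra.trdeg k B := trdeg_add_eq k A
  rw [trdeg_eq_zero (R := A) (A := B), add_zero, hN] at ht1
  have hunit : IsUnit (algebraMap A B (y j₀.succ)) :=
    isUnit_of_dvd_unit (map_dvd (algebraMap A B) hj₀) (IsLocalization.Away.algebraMap_isUnit s)
  have hspan := span_jets_eq_top (k := k) (B := B) (κ := Fin (M + 1) × Fin M) (fun p => algebraMap A B (y p))
    (span_D_localization (.powers s) y hy) i (by rw [hi, map_one]) _ hunit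
    (fun pj => algebraMap A B (quad y pj)) (fun p => ⟨(p, j₀), by rw [quad, map_mul]⟩)
  obtain ⟨G, hG, h⟩ := exists_indep (k := k) (c := c) b (fun pj => algebraMap A B (quad y pj)) hspan
    (fun P hP => by
      obtain ⟨t, ht, hle, -⟩ := SmoothPts.exists_trdeg_le (k := k) ht1.symm P
      rw [ht, Fintype.card_fin]
      exact_mod_cast hle)
  refine ⟨G, hG, fun a ha q hq hsq hl => ?_⟩
  -- the residue field as an algebra over `B`
  let L := q.ResidueField
  have hu : IsUnit (algebraMap A L s) := by
    rw [isUnit_iff_ne_zero, Ne, Ideal.algebraMap_residueField_eq_zero]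
    exact hsq
  let _ : Algebra B L := (IsLocalization.Away.lift s hu).toAlgebra
  have htow : IsScalarTower A B L := .of_algebraMap_eq fun x => (IsLocalization.Away.lift_eq s hu x).symm
  obtain ⟨e, he⟩ := SmoothPts.exists_kaehler_equiv (k := k) s B L
  have hlin : ∀ l, lin (fun pj => algebraMap A B (quad y pj)) a l = algebraMap A B (lin (quad y) a l) := by
    intro l
    rw [lin_eq, lin_eq, map_sum]
    refine Finset.sum_congr rfl fun j _ => ?_
    rw [map_mul, ← IsScalarTower.algebraMap_apply k A B]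
  have h1 := h a ha L (fun l => by
    rw [hlin, ← IsScalarTower.algebraMap_apply]
    exact Ideal.algebraMap_residueField_eq_zero.2 (hl l))
  have h2 : (fun l => (1 : L) ⊗ₜ[B] KaehlerDifferential.D k B (lin (fun pj => algebraMap A B (quad y pj)) a l)) =
      e.toLinearMap ∘ (fun l => (1 : L) ⊗ₜ[A] KaehlerDifferential.D k A (lin (quad y) a l)) := by
    funext l
    rw [hlin]
    exact (he _).symm
  rw [h2] at h1
  exact h1.of_comp _

section LinAlg

/-- General linear combinations of a spanning family are linearly independent. -/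
theorem gen_linearIndependent {k κ V c m : Type*} [Field k] [Field κ] [Algebra k κ]
    (hκ : Function.Surjective (algebraMap k κ)) [AddCommGroup V] [Module κ V] [Module.Finite κ V]
    [Fintype c] [Fintype m] (δ : m → V) (hδ : Submodule.span κ (Set.range δ) = ⊤)
    (hc : Fintype.card c ≤ Module.finrank κ V) :
    Gen (fun a : c × m → k => LinearIndependent κ (fun l => ∑ j, algebraMap k κ (a (l, j)) • δ j)) := by
  classical
  -- choose independent members of the family
  obtain ⟨t, ht, htspan, htli⟩ := exists_linearIndependent κ (Set.range δ)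
  have htop : ⊤ ≤ Submodule.span κ (Set.range (Subtype.val : t → V)) := by
    rw [Subtype.range_coe, htspan, hδ]
  let bt := Module.Basis.mk htli htop
  have hft : Finite t := Module.Finite.finite_basis bt
  have := Fintype.ofFinite t
  have hcard : Fintype.card c ≤ Fintype.card t := by
    rw [← Module.finrank_eq_card_basis bt]
    exact hc
  obtain ⟨σ⟩ := Function.Embedding.nonempty_of_card_le hcard
  have hσ : ∀ l : c, ∃ j, δ j = (σ l : V) := fun l => ht (σ l).2
  choose τ hτ using hσ
  have hbt : ∀ i : t, bt i = (i : V) := fun i => by rw [Module.Basis.mk_apply]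
  choose r hr using fun (l : c) (j : m) => hκ (bt.coord (σ l) (δ j))
  let Mt : Matrix c c (MvPolynomial (c × m) k) := Matrix.of fun l l' => ∑ j, C (r l' j) * X (l, j)
  have hev : ∀ a : c × m → k, ∀ l l', algebraMap k κ (MvPolynomial.eval a (Mt l l')) =
      bt.coord (σ l') (∑ j, algebraMap k κ (a (l, j)) • δ j) := by
    intro a l l'
    simp only [Mt, Matrix.of_apply, map_sum, map_mul, MvPolynomial.eval_C, MvPolynomial.eval_X, hr,
      map_smul, smul_eq_mul]
    exact Finset.sum_congr rfl fun j _ => mul_comm _ _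
  refine ⟨Mt.det, fun h0 => ?_, fun a ha => ?_⟩
  · have h1 := congrArg (MvPolynomial.eval (fun lj : c × m => if lj.2 = τ lj.1 then (1 : k) else 0)) h0
    rw [RingHom.map_det, map_zero] at h1
    have h2 : (MvPolynomial.eval (fun lj : c × m => if lj.2 = τ lj.1 then (1 : k) else 0)).mapMatrix Mt = 1 := by
      refine Matrix.ext fun l l' => ?_
      rw [RingHom.mapMatrix_apply, Matrix.map_apply]
      apply (algebraMap k κ).injective
      rw [hev]
      simp only [apply_ite (algebraMap k κ), map_one, map_zero, ite_smul, one_smul, zero_smul,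
        Finset.sum_ite_eq', Finset.mem_univ, if_true]
      rw [hτ, ← hbt, Module.Basis.coord_apply, Module.Basis.repr_self, Finsupp.single_apply]
      by_cases h : l = l'
      · subst h; simp
      · rw [Matrix.one_apply_ne h, if_neg (fun h' => h (σ.injective h')), map_zero]
    rw [h2, Matrix.det_one] at h1
    exact one_ne_zero h1
  · refine Fintype.linearIndependent_iff.2 ?_
    intro g hg
    have h3 : Matrix.vecMul g ((algebraMap k κ).mapMatrix ((MvPolynomial.eval a).mapMatrix Mt)) = 0 := by
      funext l'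
      simp only [Matrix.vecMul, dotProduct, RingHom.mapMatrix_apply, Matrix.map_apply, hev, Pi.zero_apply]
      have h4 := congrArg (bt.coord (σ l')) hg
      rw [map_zero, map_sum] at h4
      rw [← h4]
      exact Finset.sum_congr rfl fun l _ => by rw [map_smul, smul_eq_mul]
    have h5 : ((algebraMap k κ).mapMatrix ((MvPolynomial.eval a).mapMatrix Mt)).det ≠ 0 := by
      rw [← RingHom.map_det, ← RingHom.map_det]
      exact (map_ne_zero _).2 ha
    have h6 := Matrix.eq_zero_of_vecMul_eq_zero h5 h3
    exact fun l => congrFun h6 l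

end LinAlg

section Main

omit [IsDomain A] [Algebra.FiniteType k A] [Fintype c] in
theorem one_tmul_D_lin {m : Type} [Fintype m] (w : m → A) (a : c × m → k) (L : Type u) [Field L] [Algebra A L]
    [Algebra k L] [IsScalarTower k A L] (l : c) :
    (1 : L) ⊗ₜ[A] KaehlerDifferential.D k A (lin w a l) =
      ∑ j, algebraMap k L (a (l, j)) • (1 : L) ⊗ₜ[A] KaehlerDifferential.D k A (w j) := by
  rw [lin, map_sum, TensorProduct.tmul_sum]
  refine Finset.sum_congr rfl fun j _ => ?_
  rw [Derivation.map_smul, ← algebraMap_smul A (a (l, j)), TensorProduct.tmul_smul, TensorProduct.smul_tmul',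
    TensorProduct.smul_tmul', IsScalarTower.algebraMap_apply k A L, smul_eq_mul, mul_one, Algebra.smul_def, mul_one]

omit [IsDomain A] [Algebra.FiniteType k A] [Algebra k A] [Field k] in
theorem eq_zero_of_mem (y : Fin (M + 1) → A)
    (i : Fin (M + 1)) (hi : y i = 1) (q : Ideal A) [q.IsPrime] (hq : ∀ j : Fin M, y j.succ ∈ q) : i = 0 := by
  by_contra h
  obtain ⟨j, rfl⟩ := Fin.exists_succ_eq.2 h
  exact (Ideal.ne_top_iff_one q).1 (Ideal.IsPrime.ne_top inferInstance) (hi ▸ hq j)

omit [IsDomain A] [Algebra.FiniteType k A] in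
theorem adjoin_le_of_mem' (y : Fin (M + 1) → A) (hy : Algebra.adjoin k (Set.range y) = ⊤)
    (hi : y 0 = 1) (q : Ideal A) (hq : ∀ j : Fin M, y j.succ ∈ q) (x : A) :
    ∃ r : k, x - algebraMap k A r ∈ q := by
  have hx : x ∈ Algebra.adjoin k (Set.range y) := by rw [hy]; trivial
  induction hx using Algebra.adjoin_induction with
  | mem x hx =>
    obtain ⟨p, rfl⟩ := hx
    induction p using Fin.cases with
    | zero => exact ⟨1, by rw [hi, map_one, sub_self]; exact q.zero_mem⟩
    | succ j => exact ⟨0, by rw [map_zero, sub_zero]; exact hq j⟩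
  | algebraMap r => exact ⟨r, by rw [sub_self]; exact q.zero_mem⟩
  | add x z _ _ hx hz =>
    obtain ⟨r, hr⟩ := hx
    obtain ⟨t, ht⟩ := hz
    refine ⟨r + t, ?_⟩
    rw [map_add]
    have := q.add_mem hr ht
    rwa [show x + z - (algebraMap k A r + algebraMap k A t) =
      x - algebraMap k A r + (z - algebraMap k A t) by ring]
  | mul x z _ _ hx hz =>
    obtain ⟨r, hr⟩ := hx
    obtain ⟨t, ht⟩ := hz
    refine ⟨r * t, ?_⟩
    rw [map_mul]
    have := q.add_mem (q.mul_mem_right z hr) (q.mul_mem_left (algebraMap k A r) ht)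
    rwa [show (x - algebraMap k A r) * z + algebraMap k A r * (z - algebraMap k A t) =
      x * z - algebraMap k A r * algebraMap k A t by ring] at this

omit [IsDomain A] [Algebra.FiniteType k A] in
theorem adjoin_le_of_mem (y : Fin (M + 1) → A) (hy : Algebra.adjoin k (Set.range y) = ⊤)
    (i : Fin (M + 1)) (hi : y i = 1) (q : Ideal A) [q.IsPrime] (hq : ∀ j : Fin M, y j.succ ∈ q) (x : A) :
    ∃ r : k, x - algebraMap k A r ∈ q :=
  adjoin_le_of_mem' y hy (eq_zero_of_mem y i hi q hq ▸ hi) q hq x

omit [IsDomain A] [Algebra.FiniteType k A] in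
theorem le_of_mem (y : Fin (M + 1) → A) (hy : Algebra.adjoin k (Set.range y) = ⊤)
    (i : Fin (M + 1)) (hi : y i = 1) (q q' : Ideal A) [q.IsPrime] [q'.IsPrime]
    (hq : ∀ j : Fin M, y j.succ ∈ q) (hq' : ∀ j : Fin M, y j.succ ∈ q') : q ≤ q' := by
  intro x hx
  obtain ⟨r, hr⟩ := adjoin_le_of_mem' y hy (eq_zero_of_mem y i hi q hq ▸ hi) (q ⊓ q')
    (fun j => ⟨hq j, hq' j⟩) x
  have hr0 : r = 0 := by
    by_contra hr0
    have h1 : algebraMap k A r ∈ q := by
      have := q.sub_mem hx hr.1
      rwa [sub_sub_cancel] at this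
    exact Ideal.IsPrime.ne_top inferInstance
      (Ideal.eq_top_of_isUnit_mem _ h1 ((IsUnit.mk0 r hr0).map (algebraMap k A)))
  rw [hr0, map_zero, sub_zero] at hr
  exact hr.2

omit [IsDomain A] [Algebra.FiniteType k A] in
theorem algebraMap_residueField_surjective (y : Fin (M + 1) → A) (hy : Algebra.adjoin k (Set.range y) = ⊤)
    (i : Fin (M + 1)) (hi : y i = 1) (q : Ideal A) [q.IsPrime] (hq : ∀ j : Fin M, y j.succ ∈ q) :
    Function.Surjective (algebraMap k q.ResidueField) := by
  have hmax : q.IsMaximal := by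
    rw [Ideal.isMaximal_iff]
    refine ⟨fun h => Ideal.IsPrime.ne_top inferInstance ((Ideal.eq_top_iff_one q).2 h), fun J x hqJ hxq hxJ => ?_⟩
    obtain ⟨r, hr⟩ := adjoin_le_of_mem y hy i hi q hq x
    have hr0 : r ≠ 0 := by
      rintro rfl
      rw [map_zero, sub_zero] at hr
      exact hxq hr
    have h1 : algebraMap k A r ∈ J := by
      have := J.sub_mem hxJ (hqJ hr)
      rwa [sub_sub_cancel] at this
    have h2 : J = ⊤ := Ideal.eq_top_of_isUnit_mem _ h1 ((IsUnit.mk0 r hr0).map (algebraMap k A))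
    rw [h2]; trivial
  intro z
  obtain ⟨x, rfl⟩ := Ideal.algebraMap_residueField_surjective q z
  obtain ⟨r, hr⟩ := adjoin_le_of_mem y hy i hi q hq x
  refine ⟨r, ?_⟩
  rw [IsScalarTower.algebraMap_apply k A q.ResidueField, eq_comm, ← sub_eq_zero, ← map_sub]
  exact Ideal.algebraMap_residueField_eq_zero.2 hr

/-- Independence at the base point. -/
theorem gen_point [PerfectField k] (y : Fin (M + 1) → A) (hy : Algebra.adjoin k (Set.range y) = ⊤)
    (i : Fin (M + 1)) (hi : y i = 1) {N : ℕ} (hN : Algebra.trdeg k A = N) (hcN : Fintype.card c ≤ N)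
    (q : Ideal A) [q.IsPrime] (hq : ∀ j : Fin M, y j.succ ∈ q) (hsm : Algebra.IsSmoothAt k q) :
    Gen (fun a : c × (Fin (M + 1) × Fin M) → k =>
      LinearIndependent q.ResidueField (fun l => (1 : q.ResidueField) ⊗ₜ[A]
        KaehlerDifferential.D k A (lin (quad y) a l))) := by
  classical
  have hi0 : i = 0 := by
    by_contra h
    obtain ⟨j, rfl⟩ := Fin.exists_succ_eq.2 h
    exact (Ideal.ne_top_iff_one q).1 (Ideal.IsPrime.ne_top inferInstance) (hi ▸ hq j)
  subst hi0
  let L := q.ResidueField
  obtain ⟨s, hs, -, -, ⟨b⟩⟩ := SmoothPts.exists_chart hN q hsm 1 ((Ideal.ne_top_iff_one q).1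
    (Ideal.IsPrime.ne_top inferInstance))
  have hu : IsUnit (algebraMap A L s) := by
    rw [isUnit_iff_ne_zero, Ne, Ideal.algebraMap_residueField_eq_zero]
    exact hs
  let _ : Algebra (Localization.Away s) L := (IsLocalization.Away.lift s hu).toAlgebra
  have htow : IsScalarTower A (Localization.Away s) L :=
    .of_algebraMap_eq fun x => (IsLocalization.Away.lift_eq s hu x).symm
  obtain ⟨e, he⟩ := SmoothPts.exists_kaehler_equiv (k := k) s (Localization.Away s) L
  let bL : Module.Basis (Fin N) L (L ⊗[A] Ω[A⁄k]) := (b.baseChange L).map e.symm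
  have hfin : Module.Finite L (L ⊗[A] Ω[A⁄k]) := Module.Finite.of_basis bL
  have hrank : Module.finrank L (L ⊗[A] Ω[A⁄k]) = N := by
    rw [Module.finrank_eq_card_basis bL, Fintype.card_fin]
  have hspan : Submodule.span L (Set.range fun pj : Fin (M + 1) × Fin M =>
      (1 : L) ⊗ₜ[A] KaehlerDifferential.D k A (quad y pj)) = ⊤ := by
    have h1 := congrArg (Submodule.baseChange L) (span_D (k := k) y hy)
    rw [Submodule.baseChange_span, Submodule.baseChange_top] at h1
    rw [_root_.eq_top_iff, ← h1, Submodule.span_le]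
    rintro _ ⟨_, ⟨p, rfl⟩, rfl⟩
    induction p using Fin.cases with
    | zero =>
      simp only [hi]
      rw [Derivation.map_one_eq_zero, map_zero]
      exact Submodule.zero_mem _
    | succ j =>
      refine Submodule.subset_span ⟨(0, j), ?_⟩
      simp only [quad, hi, one_mul]
      rfl
  refine (gen_linearIndependent (k := k) (κ := L) (algebraMap_residueField_surjective y hy 0 hi q hq)
    (fun pj : Fin (M + 1) × Fin M => (1 : L) ⊗ₜ[A] KaehlerDifferential.D k A (quad y pj)) hspan
    (by rw [hrank]; exact hcN)).mono fun a ha => ?_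
  have h2 : (fun l => (1 : L) ⊗ₜ[A] KaehlerDifferential.D k A (lin (quad y) a l)) =
      fun l => ∑ j, algebraMap k L (a (l, j)) • (1 : L) ⊗ₜ[A] KaehlerDifferential.D k A (quad y j) :=
    funext fun l => one_tmul_D_lin (quad y) a L l
  rw [h2]
  exact ha

/-- Independence at the smooth points where some `y_{j+1}` is nonzero. -/
theorem gen_away_point [PerfectField k] (y : Fin (M + 1) → A) (hy : Algebra.adjoin k (Set.range y) = ⊤)
    (i : Fin (M + 1)) (hi : y i = 1) {N : ℕ} (hN : Algebra.trdeg k A = N) (j₀ : Fin M) :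
    Gen (fun a : c × (Fin (M + 1) × Fin M) → k => ∀ (q : Ideal A) [q.IsPrime], Algebra.IsSmoothAt k q →
      y j₀.succ ∉ q → (∀ l, lin (quad y) a l ∈ q) →
      LinearIndependent q.ResidueField (fun l => (1 : q.ResidueField) ⊗ₜ[A]
        KaehlerDifferential.D k A (lin (quad y) a l))) := by
  classical
  have hno : IsNoetherianRing A := Algebra.FiniteType.isNoetherianRing k A
  let U : Set (PrimeSpectrum A) := {q | Algebra.IsSmoothAt k q.asIdeal ∧ y j₀.succ ∉ q.asIdeal}
  have hs : ∀ q : U, ∃ s : A, s ∉ q.1.asIdeal ∧ y j₀.succ ∣ s ∧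
      Nonempty (Module.Basis (Fin N) (Localization.Away s) Ω[Localization.Away s⁄k]) := by
    rintro ⟨q, hq1, hq2⟩
    obtain ⟨s, h1, h2, -, h3⟩ := SmoothPts.exists_chart hN q.asIdeal hq1 _ hq2
    exact ⟨s, h1, h2, h3⟩
  choose s hs1 hs2 hs3 using hs
  have hcomp : IsCompact U := TopologicalSpace.NoetherianSpace.isCompact U
  obtain ⟨t, ht⟩ := hcomp.elim_finite_subcover (fun q : U => (PrimeSpectrum.basicOpen (s q) : Set (PrimeSpectrum A)))
    (fun q => (PrimeSpectrum.basicOpen (s q)).isOpen) (fun q hq => Set.mem_iUnion.2 ⟨⟨q, hq⟩, hs1 ⟨q, hq⟩⟩)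
  refine (Gen.forall_finset t fun q _ => gen_indep_away (c := c) y hy i hi hN (s q)
    (fun h => hs1 q (h ▸ Ideal.zero_mem _)) (hs3 q).some j₀ (hs2 q)).mono fun a ha q hq hsm hj hl => ?_
  have hqU : (⟨q, hq⟩ : PrimeSpectrum A) ∈ U := ⟨hsm, hj⟩
  obtain ⟨q', hq'⟩ := Set.mem_iUnion.1 (ht hqU)
  obtain ⟨hq't, hq'm⟩ := Set.mem_iUnion.1 hq'
  exact ha q' hq't q hq'm hl

/-- **General quadratic sections on a chart**: at every common zero the ambient variety is smooth and
the differentials are independent. -/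
theorem gen_chart [PerfectField k] [IsIntegrallyClosed A] (y : Fin (M + 1) → A)
    (hy : Algebra.adjoin k (Set.range y) = ⊤) (i : Fin (M + 1)) (hi : y i = 1)
    (hN : Algebra.trdeg k A = (Fintype.card c + 1 : ℕ))
    (hx : ∀ (q : Ideal A) [q.IsPrime], (∀ j : Fin M, y j.succ ∈ q) → Algebra.IsSmoothAt k q) :
    Gen (fun a : c × (Fin (M + 1) × Fin M) → k => ∀ (q : Ideal A) [q.IsPrime],
      (∀ l, lin (quad y) a l ∈ q) → Algebra.IsSmoothAt k q ∧
      LinearIndependent q.ResidueField (fun l => (1 : q.ResidueField) ⊗ₜ[A]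
        KaehlerDifferential.D k A (lin (quad y) a l))) := by
  classical
  have hno : IsNoetherianRing A := Algebra.FiniteType.isNoetherianRing k A
  have hfp : Algebra.FinitePresentation k A := Algebra.FinitePresentation.of_finiteType.1 inferInstance
  -- the non-smooth locus
  let I : Ideal A := PrimeSpectrum.vanishingIdeal (Algebra.smoothLocus k A)ᶜ
  have hI : ∀ (q : Ideal A) [hq : q.IsPrime], I ≤ q ↔ ¬ Algebra.IsSmoothAt k q := by
    intro q hq
    have hcl : IsClosed (Algebra.smoothLocus k A)ᶜ := (Algebra.isOpen_smoothLocus (R := k) (A := A)).isClosed_compl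
    have h1 : (⟨q, hq⟩ : PrimeSpectrum A) ∈ PrimeSpectrum.zeroLocus (I : Set A) ↔
        (⟨q, hq⟩ : PrimeSpectrum A) ∈ (Algebra.smoothLocus k A)ᶜ := by
      rw [PrimeSpectrum.zeroLocus_vanishingIdeal_eq_closure, hcl.closure_eq]
    rw [PrimeSpectrum.mem_zeroLocus] at h1
    exact h1
  have hwI : I ⊔ Ideal.span (Set.range (quad y)) = ⊤ := by
    by_contra h
    obtain ⟨q, hq, hle⟩ := Ideal.exists_le_maximal _ h
    have hj : ∀ j : Fin M, y j.succ ∈ q := fun j => by
      have h1 : quad y (j.succ, j) ∈ q := hle (le_sup_right (a := I) (Ideal.subset_span ⟨(j.succ, j), rfl⟩))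
      rcases hq.isPrime.mem_or_mem h1 with h2 | h2 <;> exact h2
    exact (hI q).1 (le_sup_left.trans hle) (hx q hj)
  have g1 := gen_avoid (k := k) (c := c) (quad y) I hwI (fun q hq hle => by
    obtain ⟨t, ht, hle⟩ := SmoothPts.exists_trdeg_add_two_le q ((hI q).1 hle) hN
    rw [ht]
    exact_mod_cast (by omega : t < Fintype.card c))
  have g2 := Gen.forall_finite fun j₀ : Fin M => gen_away_point (c := c) y hy i hi hN j₀
  -- the base point
  have g3 : Gen (fun a : c × (Fin (M + 1) × Fin M) → k => ∀ (q : Ideal A) [q.IsPrime],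
      (∀ j : Fin M, y j.succ ∈ q) →
      LinearIndependent q.ResidueField (fun l => (1 : q.ResidueField) ⊗ₜ[A]
        KaehlerDifferential.D k A (lin (quad y) a l))) := by
    by_cases h : ∃ (q : Ideal A) (_ : q.IsPrime), ∀ j : Fin M, y j.succ ∈ q
    · obtain ⟨q₀, hq₀, hj₀⟩ := h
      refine (gen_point (c := c) y hy i hi hN (by omega) q₀ hj₀ (hx q₀ hj₀)).mono fun a ha q hq hj => ?_
      have h1 : q = q₀ := le_antisymm (le_of_mem y hy i hi q q₀ hj hj₀) (le_of_mem y hy i hi q₀ q hj₀ hj)
      subst h1
      exact ha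
    · push Not at h
      refine Gen.of_forall fun a q hq hj => ?_
      obtain ⟨j, hj'⟩ := h q hq
      exact absurd (hj j) hj'
  refine ((g1.and g2).and g3).mono fun a ha q hq hl => ?_
  have hsm : Algebra.IsSmoothAt k q := by
    by_contra hns
    have h1 := (hI q).2 hns
    have h2 : Ideal.span (Set.range (lin (quad y) a)) ≤ q := by
      rw [Ideal.span_le]
      rintro _ ⟨l, rfl⟩
      exact hl l
    have h3 : (⊤ : Ideal A) ≤ q := by
      rw [← ha.1.1]
      exact sup_le h1 h2
    exact hq.ne_top (top_le_iff.1 h3)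
  refine ⟨hsm, ?_⟩
  by_cases hj : ∀ j : Fin M, y j.succ ∈ q
  · exact ha.2 q hj
  · push Not at hj
    obtain ⟨j₀, hj₀⟩ := hj
    exact ha.1.2 j₀ q hsm hj₀ hl

/-- Finiteness of the zeros at infinity. -/
theorem gen_finite_infty (y : Fin (M + 1) → A) (i : Fin (M + 1)) (hi : y i = 1)
    (hN : Algebra.trdeg k A = (Fintype.card c + 1 : ℕ)) (h0 : y 0 ≠ 0) :
    Gen (fun a : c × (Fin (M + 1) × Fin M) → k =>
      Module.Finite k (A ⧸ Ideal.span (insert (y 0) (Set.range (lin (quad y) a))))) := by
  have h1 := gen_finite (k := k) (c := c) (quad y) (Ideal.span {y 0}) (by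
    induction i using Fin.cases with
    | zero => rw [hi, Ideal.span_singleton_one, top_sup_eq]
    | succ j =>
      refine Ideal.eq_top_of_isUnit_mem _ (le_sup_right (a := Ideal.span {y 0})
        (Ideal.subset_span ⟨(j.succ, j), rfl⟩)) ?_
      simp only [quad, hi, one_mul, isUnit_one]) (fun q hq hle => by
    have hqb : q ≠ ⊥ := by
      rintro rfl
      exact h0 (by simpa using hle (Ideal.mem_span_singleton_self (y 0)))
    obtain ⟨t, ht, -, h2⟩ := SmoothPts.exists_trdeg_le hN q
    rw [ht]
    exact_mod_cast (by have := h2 hqb; omega : t ≤ Fintype.card c))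
  refine h1.mono fun a ha => ?_
  rw [Ideal.span_insert]
  exact ha

end Main

end Groth.Agent.An.H900.ChartMain
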