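import Groth.Agent.An.H900.Jets
import Mathlib.RingTheory.MvPolynomial.Basic
import Mathlib.Algebra.MvPolynomial.Funext

/-!
# General points of affine space

`Gen P`: the property `P` of points of affine space over `k` holds outside the zero set of some nonzero
polynomial.
-/

set_option autoImplicit false

universe u v

open MvPolynomial

namespace Groth.Agent.An.H900.Gen

/-- `P` holds at all points outside a proper Zariski closed subset. -/
def Gen {k : Type u} [Field k] {ι : Type v} (P : (ι → k) → Prop) : Prop :=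
  ∃ G : MvPolynomial ι k, G ≠ 0 ∧ ∀ a : ι → k, MvPolynomial.eval a G ≠ 0 → P a

variable {k : Type u} [Field k] {ι : Type v}

theorem Gen.mono {P Q : (ι → k) → Prop} (h : Gen P) (hPQ : ∀ a, P a → Q a) : Gen Q := by
  obtain ⟨G, hG, hP⟩ := h
  exact ⟨G, hG, fun a ha => hPQ a (hP a ha)⟩

theorem Gen.of_forall {P : (ι → k) → Prop} (h : ∀ a, P a) : Gen P :=
  ⟨1, one_ne_zero, fun a _ => h a⟩

theorem Gen.and {P Q : (ι → k) → Prop} (hP : Gen P) (hQ : Gen Q) : Gen (fun a => P a ∧ Q a) := by
  obtain ⟨G, hG, hP⟩ := hP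
  obtain ⟨G', hG', hQ⟩ := hQ
  refine ⟨G * G', mul_ne_zero hG hG', fun a ha => ?_⟩
  rw [map_mul] at ha
  exact ⟨hP a (left_ne_zero_of_mul ha), hQ a (right_ne_zero_of_mul ha)⟩

theorem Gen.forall_finset {κ : Type*} (s : Finset κ) {P : κ → (ι → k) → Prop} (h : ∀ i ∈ s, Gen (P i)) :
    Gen (fun a => ∀ i ∈ s, P i a) := by
  classical
  induction s using Finset.induction_on with
  | empty => exact Gen.of_forall (fun a i hi => absurd hi (Finset.notMem_empty i))
  | insert i s his ih =>
    have h1 := (h i (Finset.mem_insert_self i s)).and (ih fun j hj => h j (Finset.mem_insert_of_mem hj))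
    refine h1.mono fun a ha j hj => ?_
    rcases Finset.mem_insert.1 hj with rfl | hj
    · exact ha.1
    · exact ha.2 j hj

theorem Gen.forall_finite {κ : Type*} [Finite κ] {P : κ → (ι → k) → Prop} (h : ∀ i, Gen (P i)) :
    Gen (fun a => ∀ i, P i a) := by
  cases nonempty_fintype κ
  exact (Gen.forall_finset Finset.univ fun i _ => h i).mono fun a ha i => ha i (Finset.mem_univ i)

theorem Gen.exists [Infinite k] {P : (ι → k) → Prop} (h : Gen P) : ∃ a, P a := by
  obtain ⟨G, hG, hP⟩ := h
  by_contra hcon
  push Not at hcon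
  apply hG
  apply MvPolynomial.funext
  intro a
  rw [map_zero]
  by_contra ha
  exact hcon a (hP a ha)

end Groth.Agent.An.H900.Gen
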