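import Groth.Agent.An.H900.Avoid
import Mathlib.RingTheory.Kaehler.Basic
import Mathlib.RingTheory.TensorProduct.Free
import Mathlib.LinearAlgebra.Basis.Prod

/-!
# General sections whose `1`-jets generate have independent differentials at their common zeros

`exists_indep`: let `A` be a `k`-algebra with `Ω[A⁄k]` free of rank `n` and all `A/P` of transcendence degree
`≤ n`, `w : m → A` such that the pairs `(w_j, d w_j)` generate `A × Ω[A⁄k]`. For general
`a : Fin c × m → k` the elements `g_l = Σ_j a (l,j) w_j` have linearly independent differentials at each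
common zero.
-/

set_option autoImplicit false

universe u

open Cardinal Algebra MvPolynomial TensorProduct

namespace Groth.Agent.An.H900.Jets

open TrdegRel Avoid

variable {k A : Type u} [Field k] [CommRing A] [Algebra k A]

/-- the general linear combinations -/
noncomputable def lin {c m : Type} [Fintype m] (w : m → A) (a : c × m → k) (l : c) : A :=
  ∑ j, a (l, j) • w j

theorem trdeg_mvPolynomial_quotient_le {σ : Type} [Fintype σ] (Q : Ideal (MvPolynomial σ A)) [Q.IsPrime] :
    Algebra.trdeg k (MvPolynomial σ A ⧸ Q) ≤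
      Algebra.trdeg k (A ⧸ Q.comap (C : A →+* MvPolynomial σ A)) + Fintype.card σ := by
  have := trdeg_quotient_add_le (k := k) (ν := Empty) (m := σ) (0 : Matrix Empty σ A) (0 : Matrix σ Empty A)
    (by ext i; exact i.elim) Q (fun i => i.elim)
  simpa using this

/-- the coefficient `Λ_l`, equal to `1` for `l = l₀` and to the variable otherwise -/
noncomputable def lam {c : Type} [DecidableEq c] (l₀ l : c) : MvPolynomial {l // l ≠ l₀} A :=
  if h : l = l₀ then 1 else X ⟨l, h⟩

/-- the matrix of the incidence system -/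
noncomputable def mat {c m n : Type} [DecidableEq c] (b : Module.Basis n A (Ω[A⁄k])) (w : m → A) (l₀ : c) :
    Matrix (c ⊕ n) (c × m) (MvPolynomial {l // l ≠ l₀} A) :=
  Matrix.of fun i lj => Sum.elim (fun l => if l = lj.1 then C (w lj.2) else 0)
    (fun t => lam l₀ lj.1 * C (b.repr (KaehlerDifferential.D k A (w lj.2)) t)) i

theorem exists_rightInverse {c m n : Type} [Fintype c] [DecidableEq c] [Fintype m] [Fintype n]
    [DecidableEq n] (b : Module.Basis n A (Ω[A⁄k])) (w : m → A)
    (hw : Submodule.span A (Set.range fun j => (w j, KaehlerDifferential.D k A (w j))) = ⊤) (l₀ : c) :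
    ∃ H : Matrix (c × m) (c ⊕ n) (MvPolynomial {l // l ≠ l₀} A), mat (k := k) b w l₀ * H = 1 := by
  classical
  have key : ∀ z : A × Ω[A⁄k], ∃ α : m → A, ∑ j, α j • (w j, KaehlerDifferential.D k A (w j)) = z := by
    intro z
    have hz : z ∈ Submodule.span A (Set.range fun j => (w j, KaehlerDifferential.D k A (w j))) := by
      rw [hw]; trivial
    exact (Submodule.mem_span_range_iff_exists_fun A).1 hz
  obtain ⟨α, hα⟩ := key (1, 0)
  choose β hβ using fun t : n => key (0, b t)
  have hα1 : ∑ j, α j * w j = 1 := by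
    have := congrArg Prod.fst hα
    simpa [Prod.fst_sum] using this
  have hα2 : ∀ t, ∑ j, α j * b.repr (KaehlerDifferential.D k A (w j)) t = 0 := by
    intro t
    have := congrArg (fun z => b.repr (Prod.snd z) t) hα
    simpa [Prod.snd_sum, map_sum, Finsupp.finsetSum_apply] using this
  have hβ1 : ∀ t, ∑ j, β t j * w j = 0 := by
    intro t
    have := congrArg Prod.fst (hβ t)
    simpa [Prod.fst_sum] using this
  have hβ2 : ∀ t s, ∑ j, β t j * b.repr (KaehlerDifferential.D k A (w j)) s = if t = s then 1 else 0 := by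
    intro t s
    have := congrArg (fun z => b.repr (Prod.snd z) s) (hβ t)
    simpa [Prod.snd_sum, map_sum, Finsupp.finsetSum_apply, Finsupp.single_apply] using this
  refine ⟨Matrix.of fun lj i => Sum.elim (fun l => if lj.1 = l then C (α lj.2) else 0)
    (fun t => if lj.1 = l₀ then C (β t lj.2) else 0) i, ?_⟩
  have hlam : lam (A := A) l₀ l₀ = 1 := by simp [lam]
  refine Matrix.ext fun i i' => ?_
  rw [Matrix.mul_apply, Fintype.sum_prod_type]
  rcases i with l | t <;> rcases i' with l' | t'
  · simp only [mat, Matrix.of_apply, Sum.elim_inl, ite_mul, zero_mul, mul_ite, mul_zero]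
    rw [Finset.sum_eq_single l (fun x _ hx => by simp [hx.symm]) (by simp)]
    by_cases h : l = l'
    · subst h
      simp only [if_true, ← C_mul, ← map_sum, Matrix.one_apply_eq]
      rw [← C_1, ← hα1]
      exact congrArg C (Finset.sum_congr rfl fun j _ => mul_comm _ _)
    · simp [h]
  · simp only [mat, Matrix.of_apply, Sum.elim_inl, Sum.elim_inr, ite_mul, zero_mul, mul_ite, mul_zero]
    rw [Finset.sum_eq_single l (fun x _ hx => by simp [hx.symm]) (by simp)]
    rw [Matrix.one_apply_ne (by simp)]
    by_cases h : l = l₀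
    · simp only [h, if_true, ← C_mul, ← map_sum]
      rw [← C_0, ← hβ1 t']
      exact congrArg C (Finset.sum_congr rfl fun j _ => mul_comm _ _)
    · simp [h]
  · simp only [mat, Matrix.of_apply, Sum.elim_inl, Sum.elim_inr, mul_ite, mul_zero]
    rw [Finset.sum_eq_single l' (fun x _ hx => by simp [hx]) (by simp)]
    rw [Matrix.one_apply_ne (by simp)]
    simp only [if_true, mul_assoc, ← C_mul]
    rw [← Finset.mul_sum, ← map_sum]
    have : ∑ j, b.repr (KaehlerDifferential.D k A (w j)) t * α j = 0 := by
      rw [← hα2 t]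
      exact Finset.sum_congr rfl fun j _ => mul_comm _ _
    rw [this, C_0, mul_zero]
  · simp only [mat, Matrix.of_apply, Sum.elim_inr, mul_ite, mul_zero]
    rw [Finset.sum_eq_single l₀ (fun x _ hx => by simp [hx]) (by simp)]
    simp only [if_true, ← C_mul, hlam, one_mul]
    rw [← map_sum]
    have : ∑ j, b.repr (KaehlerDifferential.D k A (w j)) t * β t' j = if t' = t then 1 else 0 := by
      rw [← hβ2 t' t]
      exact Finset.sum_congr rfl fun j _ => mul_comm _ _
    rw [this]
    by_cases h : t = t'
    · subst h; simp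
    · rw [Matrix.one_apply_ne (by simpa using h), if_neg (fun h' => h h'.symm), C_0]

theorem lin_eq {c m : Type} [Fintype m] (w : m → A) (a : c × m → k) (l : c) :
    lin w a l = ∑ j, algebraMap k A (a (l, j)) * w j := by
  simp only [lin, Algebra.smul_def]

/-- **Independence of differentials.** -/
theorem exists_indep {m n c : Type} [Fintype m] [Fintype n] [Fintype c] (b : Module.Basis n A (Ω[A⁄k]))
    (w : m → A) (hw : Submodule.span A (Set.range fun j => (w j, KaehlerDifferential.D k A (w j))) = ⊤)
    (htr : ∀ P : Ideal A, P.IsPrime → Algebra.trdeg k (A ⧸ P) ≤ Fintype.card n) :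
    ∃ G : MvPolynomial (c × m) k, G ≠ 0 ∧ ∀ a : c × m → k, MvPolynomial.eval a G ≠ 0 →
      ∀ (L : Type u) [Field L] [Algebra A L], (∀ l, algebraMap A L (lin w a l) = 0) →
        LinearIndependent L (fun l => (1 : L) ⊗ₜ[A] KaehlerDifferential.D k A (lin w a l)) := by
  classical
  have step : ∀ l₀ : c, ∃ G : MvPolynomial (c × m) k, G ≠ 0 ∧ ∀ a : c × m → k, MvPolynomial.eval a G ≠ 0 →
      Ideal.span (Set.range ((mat (k := k) b w l₀).mulVec (fun j => algebraMap k _ (a j)))) = ⊤ := by
    intro l₀
    obtain ⟨H, hH⟩ := exists_rightInverse b w hw l₀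
    refine exists_avoid (k := k) (mat b w l₀) H hH fun P hP => ?_
    have h1 := trdeg_mvPolynomial_quotient_le (k := k) P
    have h2 := htr (P.comap (C : A →+* MvPolynomial {l // l ≠ l₀} A)) inferInstance
    have h3 : Fintype.card {l // l ≠ l₀} + 1 = Fintype.card c := by
      have h6 : Fintype.card {l // l ≠ l₀} = Fintype.card c - 1 := by
        simp
      have h4 : 0 < Fintype.card c := Fintype.card_pos_iff.2 ⟨l₀⟩
      omega
    have h5 : Algebra.trdeg k (MvPolynomial {l // l ≠ l₀} A ⧸ P) ≤
        ((Fintype.card n + Fintype.card {l // l ≠ l₀} : ℕ) : Cardinal.{u}) := by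
      push_cast
      exact h1.trans (by gcongr)
    refine h5.trans_lt ?_
    rw [Fintype.card_sum]
    exact_mod_cast (by omega)
  choose G hG0 hG using step
  refine ⟨∏ l, G l, Finset.prod_ne_zero_iff.2 fun l _ => hG0 l, fun a ha L _ _ hL => ?_⟩
  rw [map_prod, Finset.prod_ne_zero_iff] at ha
  by_contra hdep
  rw [Fintype.linearIndependent_iff] at hdep
  push Not at hdep
  obtain ⟨lm, hlm, l₀, hl₀⟩ := hdep
  have htop := hG l₀ a (ha l₀ (Finset.mem_univ _))
  -- normalise
  let μ : c → L := fun l => (lm l₀)⁻¹ * lm l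
  have hμ0 : μ l₀ = 1 := inv_mul_cancel₀ hl₀
  have hμ : ∑ l, μ l • ((1 : L) ⊗ₜ[A] KaehlerDifferential.D k A (lin w a l)) = 0 := by
    simp only [μ, mul_smul]
    rw [← Finset.smul_sum, hlm, smul_zero]
  let ψ : MvPolynomial {l // l ≠ l₀} A →+* L :=
    MvPolynomial.eval₂Hom (algebraMap A L) (fun l => μ l.1)
  have hψC : ∀ x : A, ψ (C x) = algebraMap A L x := fun x => MvPolynomial.eval₂Hom_C _ _ _
  have hψlam : ∀ l, ψ (lam l₀ l) = μ l := by
    intro l
    by_cases h : l = l₀
    · subst h; simp [lam, hμ0]
    · simp only [lam, h, dif_neg, not_false_iff]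
      exact MvPolynomial.eval₂Hom_X' _ _ _
  have hψk : ∀ x : k, ψ (algebraMap k _ x) = algebraMap A L (algebraMap k A x) := fun x => by
    rw [IsScalarTower.algebraMap_apply k A (MvPolynomial {l // l ≠ l₀} A)]
    exact hψC _
  have hcoord : ∀ t : n, ∑ l, μ l * algebraMap A L (b.repr (KaehlerDifferential.D k A (lin w a l)) t) = 0 := by
    intro t
    have h1 := congrArg (fun z => (b.baseChange L).repr z t) hμ
    simp only [map_sum, map_smul, Finsupp.finsetSum_apply, Finsupp.smul_apply, map_zero,
      Finsupp.coe_zero, Pi.zero_apply, smul_eq_mul] at h1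
    rw [← h1]
    refine Finset.sum_congr rfl fun l _ => ?_
    rw [Module.Basis.baseChange_repr_tmul, Algebra.smul_def, mul_one]
  have hker : Ideal.span (Set.range ((mat (k := k) b w l₀).mulVec (fun j => algebraMap k _ (a j)))) ≤
      RingHom.ker ψ := by
    rw [Ideal.span_le]
    rintro _ ⟨i, rfl⟩
    rw [SetLike.mem_coe, RingHom.mem_ker]
    rcases i with l | t
    · rw [← hL l, lin_eq]
      simp only [Matrix.mulVec, dotProduct, mat, Matrix.of_apply, Sum.elim_inl, map_sum, map_mul]
      rw [Fintype.sum_prod_type]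
      rw [Finset.sum_eq_single l (fun x _ hx => by simp [hx.symm]) (by simp)]
      refine Finset.sum_congr rfl fun j _ => ?_
      rw [if_pos rfl, hψC, hψk, mul_comm]
    · rw [← hcoord t]
      simp only [Matrix.mulVec, dotProduct, mat, Matrix.of_apply, Sum.elim_inr, map_sum, map_mul]
      rw [Fintype.sum_prod_type]
      refine Finset.sum_congr rfl fun l _ => ?_
      have h2 : KaehlerDifferential.D k A (lin w a l) = ∑ j, (algebraMap k A (a (l, j))) •
          KaehlerDifferential.D k A (w j) := by
        simp only [lin, map_sum, algebraMap_smul]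
        exact Finset.sum_congr rfl fun j _ => (KaehlerDifferential.D k A).map_smul _ _
      rw [h2, map_sum, Finsupp.finsetSum_apply, map_sum, Finset.mul_sum]
      refine Finset.sum_congr rfl fun j _ => ?_
      rw [hψlam, hψC, hψk, map_smul, Finsupp.smul_apply, smul_eq_mul, map_mul]
      ring
  rw [htop] at hker
  have h1 : (1 : MvPolynomial {l // l ≠ l₀} A) ∈ RingHom.ker ψ := hker trivial
  rw [RingHom.mem_ker, map_one] at h1
  exact one_ne_zero h1

end Groth.Agent.An.H900.Jets
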