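import Mathlib.RingTheory.AlgebraicIndependent.TranscendenceBasis
import Mathlib.RingTheory.AlgebraicIndependent.Transcendental
import Mathlib.RingTheory.LocalRing.ResidueField.Ideal
import Mathlib.LinearAlgebra.Matrix.Rank
import Mathlib.RingTheory.MvPolynomial.Basic
import Mathlib.Data.Matrix.Mul

/-!
# Transcendence degrees and linear relations
-/

set_option autoImplicit false

universe u

open Cardinal Algebra MvPolynomial

namespace Groth.Agent.An.H900.TrdegRel

/-- transcendence degree of the quotient by a prime, and of the residue field -/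
theorem trdeg_residueField {k B : Type u} [Field k] [CommRing B] [Algebra k B] (P : Ideal B)
    [P.IsPrime] : Algebra.trdeg k P.ResidueField = Algebra.trdeg k (B ⧸ P) := by
  have h := trdeg_add_eq k (B ⧸ P) (A := P.ResidueField)
  have : Algebra.IsAlgebraic (B ⧸ P) P.ResidueField :=
    IsLocalization.isAlgebraic (R := B ⧸ P) (S := P.ResidueField) (nonZeroDivisors (B ⧸ P))
  rw [← h, trdeg_eq_zero (R := B ⧸ P) (A := P.ResidueField), add_zero]

/-- If the family `x` in the `K`-algebra `D` generates `D`, the transcendence degree of `D` over `K` is at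
most the rank of the span of `x`. -/
theorem trdeg_le_finrank_span {K D : Type u} [Field K] [CommRing D] [IsDomain D] [Algebra K D]
    {m : Type} [Fintype m] (x : m → D) (hx : Algebra.adjoin K (Set.range x) = ⊤) :
    Algebra.trdeg K D ≤ (Module.finrank K (Submodule.span K (Set.range x)) : Cardinal.{u}) := by
  classical
  have hfin : Module.Finite K (Submodule.span K (Set.range x)) :=
    Module.Finite.span_of_finite K (Set.finite_range x)
  let b := Module.finBasis K (Submodule.span K (Set.range x))
  let s : Set D := Set.range (fun i => (b i : D))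
  have hs : Submodule.span K s = Submodule.span K (Set.range x) := by
    have h1 := b.span_eq
    have h2 := congrArg (Submodule.map (Submodule.span K (Set.range x)).subtype) h1
    rw [Submodule.map_span, Submodule.map_top, Submodule.range_subtype, ← Set.range_comp] at h2
    exact h2
  have hadj : Algebra.adjoin K s = ⊤ := by
    rw [← Algebra.adjoin_span, hs, Algebra.adjoin_span, hx]
  have halg : Algebra.IsAlgebraic (Algebra.adjoin K s) D := by
    rw [hadj]
    refine ⟨fun y => ?_⟩
    have := isAlgebraic_algebraMap (R := (⊤ : Subalgebra K D)) (A := D) (⟨y, Algebra.mem_top⟩ : (⊤ : Subalgebra K D))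
    exact this
  refine (Algebra.IsAlgebraic.trdeg_le_cardinalMk K s).trans ?_
  have h3 := Cardinal.mk_range_le_lift (f := fun i : Fin (Module.finrank K (Submodule.span K (Set.range x))) => (b i : D))
  simpa using h3

/-- Linear relations with coefficients in `K` bound the rank of a span. -/
theorem finrank_span_add_le {K D : Type u} [Field K] [CommRing D] [Algebra K D]
    {ν m : Type} [Fintype ν] [Fintype m] [DecidableEq ν] (F : Matrix ν m K) (H : Matrix m ν K) (hFH : F * H = 1)
    (x : m → D) (hx : ∀ i, ∑ j, F i j • x j = 0) :
    Module.finrank K (Submodule.span K (Set.range x)) + Fintype.card ν ≤ Fintype.card m := by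
  classical
  let ψ : (m → K) →ₗ[K] D := Fintype.linearCombination K x
  have hr : LinearMap.range ψ = Submodule.span K (Set.range x) := Fintype.range_linearCombination K x
  have hrk := ψ.finrank_range_add_finrank_ker
  rw [hr, Module.finrank_fintype_fun_eq_card] at hrk
  have hli : LinearIndependent K (fun i => F i) := by
    have := Matrix.linearIndependent_rows_of_isUnit (A := (1 : Matrix ν ν K)) isUnit_one
    rw [← hFH] at this
    have h4 : (F * H).row = (Matrix.vecMulLinear H) ∘ F.row := by
      ext i j
      simp [Matrix.mul_apply, Matrix.vecMul, dotProduct]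
    rw [h4] at this
    exact LinearIndependent.of_comp _ this
  have hker : ∀ i, F i ∈ LinearMap.ker ψ := fun i => by
    rw [LinearMap.mem_ker]
    simpa [ψ, Fintype.linearCombination_apply] using hx i
  have hcard : Fintype.card ν ≤ Module.finrank K (LinearMap.ker ψ) := by
    let g : ν → LinearMap.ker ψ := fun i => ⟨F i, hker i⟩
    have hg : LinearIndependent K g := by
      refine LinearIndependent.of_comp (LinearMap.ker ψ).subtype ?_
      exact hli
    exact hg.fintype_card_le_finrank
  omega

/-- the linear relation given by a row of a matrix -/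
noncomputable def rel {B : Type u} [CommRing B] {ν m : Type} [Fintype m] (F : Matrix ν m B) (i : ν) :
    MvPolynomial m B := ∑ j, C (F i j) * X j

/-- For a prime `Q` of `B[X_1..X_m]` containing `ν` independent linear relations in the `X_j`,
`trdeg (B[X]/Q) + ν ≤ trdeg (B/(Q ∩ B)) + m`. -/
theorem trdeg_quotient_add_le {k B : Type u} [Field k] [CommRing B] [Algebra k B] {ν m : Type}
    [Fintype ν] [Fintype m] [DecidableEq ν] (F : Matrix ν m B) (H : Matrix m ν B) (hFH : F * H = 1)
    (Q : Ideal (MvPolynomial m B)) [Q.IsPrime] (hQ : ∀ i, rel F i ∈ Q) :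
    Algebra.trdeg k (MvPolynomial m B ⧸ Q) + Fintype.card ν ≤
      Algebra.trdeg k (B ⧸ Q.comap (C : B →+* MvPolynomial m B)) + Fintype.card m := by
  classical
  set P := Q.comap (C : B →+* MvPolynomial m B) with hP
  let K := P.ResidueField
  let L := Q.ResidueField
  let _ : Algebra K L := (Ideal.ResidueField.map P Q (C : B →+* MvPolynomial m B) rfl).toAlgebra
  have hKL : ∀ b : B, algebraMap K L (algebraMap B K b) = algebraMap (MvPolynomial m B) L (C b) :=
    fun b => Ideal.ResidueField.map_algebraMap P Q _ rfl b
  have hkK : ∀ c : k, algebraMap k K c = algebraMap B K (algebraMap k B c) := fun c =>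
    IsScalarTower.algebraMap_apply k B K c
  have hkL : ∀ c : k, algebraMap k L c = algebraMap (MvPolynomial m B) L (algebraMap k _ c) := fun c =>
    IsScalarTower.algebraMap_apply k (MvPolynomial m B) L c
  have : IsScalarTower k K L := .of_algebraMap_eq fun c => by
    rw [hkK, hKL, hkL]
    rfl
  let x : m → L := fun j => algebraMap (MvPolynomial m B) L (X j)
  let D := Algebra.adjoin K (Set.range x)
  have hmem : ∀ p : MvPolynomial m B, algebraMap (MvPolynomial m B) L p ∈ D := by
    intro p
    induction p using MvPolynomial.induction_on with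
    | C b =>
      rw [← hKL]
      exact D.algebraMap_mem _
    | add p q hp hq =>
      rw [map_add]
      exact add_mem hp hq
    | mul_X p j hp =>
      rw [map_mul]
      exact mul_mem hp (Algebra.subset_adjoin ⟨j, rfl⟩)
  -- the map to `D`
  let φ : MvPolynomial m B →ₐ[k] D :=
    { toFun := fun p => ⟨algebraMap (MvPolynomial m B) L p, hmem p⟩
      map_one' := Subtype.ext (map_one _)
      map_mul' := fun p q => Subtype.ext (map_mul _ _ _)
      map_zero' := Subtype.ext (map_zero _)
      map_add' := fun p q => Subtype.ext (map_add _ _ _)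
      commutes' := fun c => Subtype.ext (by
        change algebraMap (MvPolynomial m B) L (algebraMap k _ c) = ((algebraMap k D c : D) : L)
        rw [← hkL]
        rfl) }
  let φ' : (MvPolynomial m B ⧸ Q) →ₐ[k] D := Ideal.Quotient.liftₐ Q φ (fun p hp => Subtype.ext
    (Ideal.algebraMap_residueField_eq_zero.2 hp))
  have hinj : Function.Injective φ' := by
    rw [injective_iff_map_eq_zero]
    intro z hz
    obtain ⟨p, rfl⟩ := Ideal.Quotient.mk_surjective z
    rw [Ideal.Quotient.eq_zero_iff_mem]
    have h2 : algebraMap (MvPolynomial m B) L p = 0 := congrArg Subtype.val hz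
    exact Ideal.algebraMap_residueField_eq_zero.1 h2
  have h1 : Algebra.trdeg k (MvPolynomial m B ⧸ Q) ≤ Algebra.trdeg k D :=
    trdeg_le_of_injective φ' hinj
  have h2 : Algebra.trdeg k K + Algebra.trdeg K D = Algebra.trdeg k D := trdeg_add_eq k K
  let x' : m → D := fun j => ⟨x j, Algebra.subset_adjoin ⟨j, rfl⟩⟩
  have hx' : Algebra.adjoin K (Set.range x') = ⊤ := by
    have h5 : (Algebra.adjoin K (Set.range x')).map D.val = (⊤ : Subalgebra K D).map D.val := by
      rw [AlgHom.map_adjoin, ← Set.range_comp, Algebra.map_top, Subalgebra.range_val]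
      rfl
    exact Subalgebra.map_injective Subtype.val_injective h5
  have h3 := trdeg_le_finrank_span x' hx'
  have h4 : Module.finrank K (Submodule.span K (Set.range x')) + Fintype.card ν ≤ Fintype.card m := by
    refine finrank_span_add_le (F.map (algebraMap B K)) (H.map (algebraMap B K)) ?_ x' ?_
    · rw [← Matrix.map_mul, hFH, Matrix.map_one _ (map_zero _) (map_one _)]
    · intro i
      apply Subtype.ext
      rw [AddSubmonoidClass.coe_finsetSum]
      have h6 := Ideal.algebraMap_residueField_eq_zero.2 (hQ i)
      rw [rel, map_sum] at h6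
      change ∑ j, ((algebraMap B K (F i j)) • x j) = 0
      refine Eq.trans ?_ h6
      refine Finset.sum_congr rfl fun j _ => ?_
      rw [map_mul, Algebra.smul_def, hKL]
  have hPK : Algebra.trdeg k K = Algebra.trdeg k (B ⧸ P) := trdeg_residueField P
  calc Algebra.trdeg k (MvPolynomial m B ⧸ Q) + Fintype.card ν
      ≤ Algebra.trdeg k D + Fintype.card ν := by gcongr
    _ = Algebra.trdeg k K + Algebra.trdeg K D + Fintype.card ν := by rw [h2]
    _ ≤ Algebra.trdeg k K + (Module.finrank K (Submodule.span K (Set.range x')) : Cardinal.{u}) +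
        Fintype.card ν := by gcongr
    _ = Algebra.trdeg k (B ⧸ P) + ((Module.finrank K (Submodule.span K (Set.range x')) +
        Fintype.card ν : ℕ) : Cardinal.{u}) := by rw [hPK, add_assoc, Nat.cast_add]
    _ ≤ Algebra.trdeg k (B ⧸ P) + (Fintype.card m : Cardinal.{u}) := by
        gcongr

end Groth.Agent.An.H900.TrdegRel
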